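import Cfsg.Agent.GraphPerm.Table

/-!
# Elements carrying one symmetry of a graph to a power of itself

The graph is one number, bit `n * u + v` saying whether `u` and `v` are adjacent.  A depth first
search over the images of a few cycle representatives finds all candidates, which are determined
by their images on a distinguishing set.
-/

set_option autoImplicit false

namespace CfsgLib.GraphPerm

open Equiv (Perm)

variable {n : ℕ}

/-- Adjacency. -/
def adjT (n R u v : ℕ) : Bool := R.testBit (n * u + v)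

/-- The symmetries of the graph. -/
def autR (n R : ℕ) : Subgroup (Perm (Fin n)) where
  carrier := {σ | ∀ u v : Fin n, adjT n R (σ u).val (σ v).val = adjT n R u.val v.val}
  one_mem' := fun _ _ => rfl
  mul_mem' {a b} ha hb u v := (ha (b u) (b v)).trans (hb u v)
  inv_mem' {a} ha u v := by
    rw [← ha (a⁻¹ u) (a⁻¹ v), Equiv.Perm.coe_inv, Equiv.apply_symm_apply, Equiv.apply_symm_apply]

/-- A table preserves adjacency. -/
def isAut (n R t : ℕ) : Bool :=
  forBelow n fun u => forBelow n fun v => adjT n R (tget t u) (tget t v) == adjT n R u v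

theorem mem_autR_of_isAut {R t : ℕ} {σ : Perm (Fin n)} (hσ : IsTab σ t) (h : isAut n R t = true) :
    σ ∈ autR n R := by
  intro u v
  simp only [isAut, forBelow_iff, beq_iff_eq] at h
  rw [hσ, hσ]
  exact h _ u.isLt _ v.isLt

/-- `j` steps of a table. -/
def iterT (a : ℕ) : ℕ → ℕ → ℕ
  | 0, i => i
  | j + 1, i => tget a (iterT a j i)

/-- The pairs `(a ^ j r, (a ^ k) ^ j v)`, `j < len`. -/
def cyclePairs (a k r v : ℕ) : ℕ → List (ℕ × ℕ)
  | 0 => []
  | j + 1 => (iterT a j r, iterT a (j * k) v) :: cyclePairs a k r v j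

/-- The image of a point under a partial map. -/
def imgOf : List (ℕ × ℕ) → ℕ → Option ℕ
  | [], _ => none
  | q :: asg, x => if q.1 == x then some q.2 else imgOf asg x

/-- A level: representative, cycle length and the pairs of points to compare. -/
abbrev SLevel : Type := ℕ × ℕ × List (ℕ × ℕ)

/-- The comparisons at one level. -/
def testsOK (n R : ℕ) (asg : List (ℕ × ℕ)) (tests : List (ℕ × ℕ)) : Bool :=
  tests.all fun p => match imgOf asg p.1, imgOf asg p.2 with
    | some gx, some gy => adjT n R gx gy == adjT n R p.1 p.2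
    | _, _ => true

/-- The search: every surviving map agrees on `B` with a listed table. -/
def searchT (n R a k : ℕ) (B L : List ℕ) : List SLevel → List (ℕ × ℕ) → Bool
  | [], asg => L.any fun t => B.all fun x => imgOf asg x == some (tget t x)
  | (r, len, tests) :: rest, asg => forBelow n fun v =>
      asg.any (fun q => q.2 == v) || !(testsOK n R (cyclePairs a k r v len ++ asg) tests) ||
        searchT n R a k B L rest (cyclePairs a k r v len ++ asg)

/-- The representatives are new. -/
def repsNew (n a k : ℕ) : List SLevel → List (ℕ × ℕ) → Bool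
  | [], _ => true
  | (r, len, _) :: rest, asg => decide (r < n) && !(asg.any fun q => q.1 == r) &&
      repsNew n a k rest (cyclePairs a k r r len ++ asg)

/-- The pattern of adjacency of `u` to the points of `B`. -/
def signature (n R : ℕ) (B : List ℕ) (u : ℕ) : ℕ :=
  B.foldl (fun acc x => 2 * acc + (adjT n R u x).toNat) 0

/-- `B` is distinguishing. -/
def distinguishing (n R : ℕ) (B : List ℕ) : Bool :=
  B.all (fun x => decide (x < n)) && noDup ((List.range n).map (signature n R B))

theorem eq_of_agree_on {R : ℕ} {B : List ℕ} (hB : distinguishing n R B = true)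
    {σ τ : Perm (Fin n)} (hσ : σ ∈ autR n R) (hτ : τ ∈ autR n R)
    (h : ∀ x : Fin n, x.val ∈ B → σ x = τ x) : σ = τ := by
  simp only [distinguishing, Bool.and_eq_true, List.all_eq_true, decide_eq_true_eq] at hB
  obtain ⟨hlt, hnd⟩ := hB
  refine Equiv.ext fun u => ?_
  have key : ∀ x ∈ B, adjT n R (τ⁻¹ (σ u)).val x = adjT n R u.val x := fun x hx => by
    have h1 := hσ u ⟨x, hlt x hx⟩
    have h2 := hτ (τ⁻¹ (σ u)) ⟨x, hlt x hx⟩
    rw [Equiv.Perm.coe_inv, Equiv.apply_symm_apply] at h2
    rw [h ⟨x, hlt x hx⟩ hx] at h1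
    exact h2.symm.trans h1
  have hs : signature n R B (τ⁻¹ (σ u)).val = signature n R B u.val := by
    have aux : ∀ (l : List ℕ), (∀ x ∈ l, x ∈ B) → ∀ acc,
        l.foldl (fun acc x => 2 * acc + (adjT n R (τ⁻¹ (σ u)).val x).toNat) acc =
          l.foldl (fun acc x => 2 * acc + (adjT n R u.val x).toNat) acc := by
      intro l
      induction l with
      | nil => intro _ acc; rfl
      | cons x l ih =>
        intro hl acc
        rw [List.foldl_cons, List.foldl_cons, key x (hl x List.mem_cons_self),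
          ih (fun y hy => hl y (List.mem_cons_of_mem _ hy))]
    exact aux B (fun _ hx => hx) 0
  have := List.inj_on_of_nodup_map (nodup_of_noDup hnd) (List.mem_range.2 (τ⁻¹ (σ u)).isLt)
    (List.mem_range.2 u.isLt) hs
  have e : τ⁻¹ (σ u) = u := Fin.ext this
  calc σ u = τ (τ⁻¹ (σ u)) := by simp
    _ = τ u := by rw [e]

section Sound

variable {R a k : ℕ} {σ g : Perm (Fin n)}

/-- The partial map agrees with `g`. -/
def Agrees (g : Perm (Fin n)) (asg : List (ℕ × ℕ)) : Prop :=
  ∀ q ∈ asg, ∃ h : q.1 < n, (g ⟨q.1, h⟩).val = q.2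

theorem iterT_eq (ha : IsTab σ a) (x : Fin n) : ∀ j, iterT a j x.val = ((σ ^ j) x).val
  | 0 => rfl
  | j + 1 => by rw [iterT, iterT_eq ha x j, ← ha, pow_succ', Equiv.Perm.mul_apply]

theorem agrees_cyclePairs (ha : IsTab σ a) (hg : g * σ = σ ^ k * g) {r v : ℕ} (hr : r < n)
    (hv : (g ⟨r, hr⟩).val = v) : ∀ len, Agrees g (cyclePairs a k r v len)
  | 0 => by simp [cyclePairs, Agrees]
  | j + 1 => by
    intro q hq
    rcases List.mem_cons.1 hq with rfl | hq
    · have e1 := iterT_eq ha (⟨r, hr⟩ : Fin n) j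
      have hc : g * σ ^ j = (σ ^ k) ^ j * g := (SemiconjBy.pow_right hg j).eq
      refine ⟨e1 ▸ ((σ ^ j) ⟨r, hr⟩).isLt, ?_⟩
      rw [show (⟨iterT a j r, _⟩ : Fin n) = (σ ^ j) ⟨r, hr⟩ from Fin.ext e1, ← hv, iterT_eq ha,
        Nat.mul_comm, pow_mul]
      exact congrArg Fin.val (DFunLike.congr_fun hc ⟨r, hr⟩)
    · exact agrees_cyclePairs ha hg hr hv j q hq

theorem imgOf_spec {asg : List (ℕ × ℕ)} (hag : Agrees g asg) {x y : ℕ}
    (h : imgOf asg x = some y) : ∃ hx : x < n, (g ⟨x, hx⟩).val = y := by
  induction asg with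
  | nil => simp [imgOf] at h
  | cons q asg ih =>
    rw [imgOf] at h
    by_cases hq : q.1 = x
    · rw [if_pos (by simp [hq])] at h
      obtain ⟨h1, h2⟩ := hag q List.mem_cons_self
      cases h
      subst hq
      exact ⟨h1, h2⟩
    · rw [if_neg (by simp [hq])] at h
      exact ih (fun p hp => hag p (List.mem_cons_of_mem _ hp)) h

theorem cyclePairs_fst (a k r v : ℕ) : ∀ len,
    (cyclePairs a k r v len).map Prod.fst = (cyclePairs a k r r len).map Prod.fst
  | 0 => rfl
  | j + 1 => by simp [cyclePairs, cyclePairs_fst a k r v j]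

theorem searchT_sound (ha : IsTab σ a) (hg : g * σ = σ ^ k * g) (hgA : g ∈ autR n R)
    {B L : List ℕ} (hB : distinguishing n R B = true) (hL : ∀ t ∈ L, InTab (autR n R) t) :
    ∀ (levels : List SLevel) (asg asg0 : List (ℕ × ℕ)), Agrees g asg →
      asg.map Prod.fst = asg0.map Prod.fst → repsNew n a k levels asg0 = true →
      searchT n R a k B L levels asg = true → ∃ t ∈ L, IsTab g t
  | [], asg, _, hag, _, _, hs => by
    simp only [searchT, List.any_eq_true, List.all_eq_true, beq_iff_eq] at hs
    obtain ⟨t, ht, htB⟩ := hs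
    obtain ⟨τ, hτ, rτ⟩ := hL t ht
    refine ⟨t, ht, ?_⟩
    rw [eq_of_agree_on hB hgA hτ fun x hx => ?_]
    · exact rτ
    · obtain ⟨hx', e⟩ := imgOf_spec hag (htB _ hx)
      exact Fin.ext (e.trans (rτ x).symm)
  | (r, len, tests) :: rest, asg, asg0, hag, hfst, hnew, hs => by
    simp only [repsNew, Bool.and_eq_true, decide_eq_true_eq, Bool.not_eq_true',
      List.any_eq_false, beq_iff_eq] at hnew
    obtain ⟨⟨hr, hnr⟩, hrest⟩ := hnew
    simp only [searchT, forBelow_iff, Bool.or_eq_true, List.any_eq_true, beq_iff_eq,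
      Bool.not_eq_true'] at hs
    have hag' : Agrees g (cyclePairs a k r (g ⟨r, hr⟩).val len ++ asg) := fun q hq =>
      (List.mem_append.1 hq).elim (agrees_cyclePairs ha hg hr rfl len q) (hag q)
    rcases hs _ (g ⟨r, hr⟩).isLt with (⟨q, hq, he⟩ | ht) | hrec
    · obtain ⟨h1, h2⟩ := hag q hq
      have hqr : q.1 = r := congrArg Fin.val (g.injective (Fin.ext (h2.trans he)))
      have : r ∈ asg0.map Prod.fst := hfst ▸ List.mem_map.2 ⟨q, hq, hqr⟩
      obtain ⟨q0, hq0, e0⟩ := List.mem_map.1 this
      exact absurd e0 (hnr q0 hq0)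
    · exfalso
      rw [← Bool.not_eq_true] at ht
      refine ht ?_
      simp only [testsOK, List.all_eq_true]
      intro p _
      split
      · rename_i gx gy hx hy
        obtain ⟨hx1, ex⟩ := imgOf_spec hag' hx
        obtain ⟨hy1, ey⟩ := imgOf_spec hag' hy
        rw [beq_iff_eq, ← ex, ← ey]
        exact hgA ⟨p.1, hx1⟩ ⟨p.2, hy1⟩
      · rfl
    · exact searchT_sound ha hg hgA hB hL rest _ (cyclePairs a k r r len ++ asg0) hag'
        (by rw [List.map_append, List.map_append, cyclePairs_fst, hfst]) hrest hrec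

end Sound

end CfsgLib.GraphPerm
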