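import Mathlib.GroupTheory.GroupAction.Quotient
import Mathlib.GroupTheory.Perm.Basic
import Mathlib.Algebra.BigOperators.Group.List.Basic
import Mathlib.Data.Fintype.Perm
import Mathlib.Tactic.Group
import Mathlib.Data.List.GetD
import Mathlib.SetTheory.Cardinal.Finite
import Mathlib.Data.Set.Card

/-!
# Permutations of a few hundred numbered points, as packed tables

A table stores the image of `i` in the nine bits from position `9 * i` on.  Straight line programs
certify membership in a subgroup; breadth first trees bound the order of a subgroup from below.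
-/

set_option autoImplicit false

namespace CfsgLib.GraphPerm

open Equiv (Perm)

/-- `p` holds below `n`. -/
def forBelow (n : ℕ) (p : ℕ → Bool) : Bool := (List.range n).all p

theorem forBelow_iff {n : ℕ} {p : ℕ → Bool} : forBelow n p = true ↔ ∀ i < n, p i = true := by
  simp [forBelow]

/-- Entry `i` of a table. -/
def tget (t i : ℕ) : ℕ := (t >>> (9 * i)) % 512

variable {n : ℕ}

/-- The table is that of the permutation. -/
def IsTab (σ : Perm (Fin n)) (t : ℕ) : Prop := ∀ i : Fin n, (σ i).val = tget t i.val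

theorem IsTab.tget_lt {σ : Perm (Fin n)} {t : ℕ} (h : IsTab σ t) {i : ℕ} (hi : i < n) :
    tget t i < n := h ⟨i, hi⟩ ▸ (σ ⟨i, hi⟩).isLt

theorem IsTab.unique {σ τ : Perm (Fin n)} {t : ℕ} (h : IsTab σ t) (h' : IsTab τ t) : σ = τ :=
  Equiv.ext fun i => Fin.ext ((h i).trans (h' i).symm)

theorem IsTab.eq_of_agree {σ : Perm (Fin n)} {t : ℕ} (h : IsTab σ t) {i : ℕ} (hi : i < n) :
    (σ ⟨i, hi⟩).val = tget t i := h ⟨i, hi⟩

/-- A member of the subgroup with this table. -/
def InTab (H : Subgroup (Perm (Fin n))) (t : ℕ) : Prop := ∃ σ ∈ H, IsTab σ t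

theorem InTab.mono {H K : Subgroup (Perm (Fin n))} (hle : H ≤ K) {t : ℕ} (h : InTab H t) :
    InTab K t :=
  let ⟨σ, hσ, r⟩ := h; ⟨σ, hle hσ, r⟩

/-- Image of a point under a word in tables. -/
def wImg (xs : List ℕ) (w : List ℕ) (i : ℕ) : ℕ := w.foldr (fun a j => tget (xs.getD a 0) j) i

/-- Value of a word. -/
def wval {M : Type*} [Monoid M] (x : ℕ → M) (w : List ℕ) : M := (w.map x).prod

@[simp] theorem wval_nil {M : Type*} [Monoid M] (x : ℕ → M) : wval x [] = 1 := rfl

theorem wval_cons {M : Type*} [Monoid M] (x : ℕ → M) (a : ℕ) (w : List ℕ) :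
    wval x (a :: w) = x a * wval x w := List.prod_cons ..

theorem wval_append {M : Type*} [Monoid M] (x : ℕ → M) (u v : List ℕ) :
    wval x (u ++ v) = wval x u * wval x v := by
  simp [wval]

theorem wval_replicate {M : Type*} [Monoid M] (x : ℕ → M) (k a : ℕ) :
    wval x (List.replicate k a) = x a ^ k := by
  simp [wval]

theorem map_wval {M N : Type*} [Monoid M] [Monoid N] (f : M →* N) (x : ℕ → M) (w : List ℕ) :
    f (wval x w) = wval (fun i => f (x i)) w := by
  simp [wval, map_list_prod, List.map_map, Function.comp_def]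

/-- The members `x` have the tables `xs`. -/
def HasTabs (xs : List ℕ) (x : ℕ → Perm (Fin n)) : Prop :=
  ∀ a, a < xs.length → IsTab (x a) (xs.getD a 0)

theorem wImg_eq {xs : List ℕ} {x : ℕ → Perm (Fin n)} (hx : HasTabs xs x) :
    ∀ {w : List ℕ}, (∀ a ∈ w, a < xs.length) → ∀ i : Fin n, (wval x w i).val = wImg xs w i.val
  | [], _, i => by simp [wImg]
  | a :: w, hw, i => by
    rw [wval_cons, Equiv.Perm.mul_apply, hx a (hw a List.mem_cons_self),
      wImg_eq hx (fun b hb => hw b (List.mem_cons_of_mem _ hb))]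
    rfl

/-- Two words give one permutation. -/
def wordEq (n : ℕ) (xs u v : List ℕ) : Bool := forBelow n fun i => wImg xs u i == wImg xs v i

theorem wordEq_iff {xs : List ℕ} {x : ℕ → Perm (Fin n)} (hx : HasTabs xs x) {u v : List ℕ}
    (hu : ∀ a ∈ u, a < xs.length) (hv : ∀ a ∈ v, a < xs.length) :
    wordEq n xs u v = true ↔ wval x u = wval x v := by
  simp only [wordEq, forBelow_iff, beq_iff_eq]
  constructor
  · intro h
    refine Equiv.ext fun i => Fin.ext ?_
    rw [wImg_eq hx hu, wImg_eq hx hv, h _ i.isLt]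
  · intro h i hi
    rw [← wImg_eq hx hu ⟨i, hi⟩, h, wImg_eq hx hv ⟨i, hi⟩]

/-- Conjugation by a table carries one word to the other. -/
def wordConj (n : ℕ) (xs : List ℕ) (g : ℕ) (u v : List ℕ) : Bool :=
  forBelow n fun i => tget g (wImg xs u i) == wImg xs v (tget g i)

theorem wordConj_sound {xs : List ℕ} {x : ℕ → Perm (Fin n)} (hx : HasTabs xs x)
    {γ : Perm (Fin n)} {g : ℕ} (hγ : IsTab γ g) {u v : List ℕ} (hu : ∀ a ∈ u, a < xs.length)
    (hv : ∀ a ∈ v, a < xs.length) (h : wordConj n xs g u v = true) :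
    γ * wval x u * γ⁻¹ = wval x v := by
  simp only [wordConj, forBelow_iff, beq_iff_eq] at h
  rw [mul_inv_eq_iff_eq_mul]
  refine Equiv.ext fun i => Fin.ext ?_
  simp only [Equiv.Perm.mul_apply]
  rw [hγ, wImg_eq hx hu, wImg_eq hx hv, hγ, h _ i.isLt]

/-- A step of a straight line program: `none` inverts the first entry. -/
abbrev SStep : Type := ℕ × Option ℕ × ℕ

/-- The check of one step. -/
def stepOK (n : ℕ) (L : List ℕ) : SStep → Bool
  | (i, some j, T) => decide (i < L.length) && decide (j < L.length) &&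
      forBelow n fun x => tget T x == tget (L.getD i 0) (tget (L.getD j 0) x)
  | (i, none, T) => decide (i < L.length) &&
      forBelow n fun x => decide (tget T x < n) && tget (L.getD i 0) (tget T x) == x

/-- The check of a straight line program. -/
def slpOK (n : ℕ) : List ℕ → List SStep → Bool
  | _, [] => true
  | L, s :: rest => stepOK n L s && slpOK n (L ++ [s.2.2]) rest

/-- The tables produced by a program. -/
def slpTabs (L : List ℕ) (steps : List SStep) : List ℕ := L ++ steps.map fun s => s.2.2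

theorem inTab_slp {H : Subgroup (Perm (Fin n))} : ∀ (steps : List SStep) (L : List ℕ),
    (∀ t ∈ L, InTab H t) → slpOK n L steps = true → ∀ t ∈ slpTabs L steps, InTab H t
  | [], L, hL, _, t, ht => hL t (by simpa [slpTabs] using ht)
  | (i, o, T) :: rest, L, hL, hok, t, ht => by
    simp only [slpOK, Bool.and_eq_true] at hok
    refine inTab_slp rest (L ++ [T]) ?_ hok.2 t (by simpa [slpTabs] using ht)
    intro u hu
    rcases List.mem_append.1 hu with hu | hu
    · exact hL u hu
    · rw [List.mem_singleton.1 hu]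
      have hget : ∀ k, k < L.length → InTab H (L.getD k 0) := fun k hk => by
        rw [List.getD_eq_getElem _ _ hk]; exact hL _ (List.getElem_mem hk)
      cases o with
      | some j =>
        simp only [stepOK, Bool.and_eq_true, decide_eq_true_eq, forBelow_iff, beq_iff_eq] at hok
        obtain ⟨⟨⟨hi, hj⟩, h⟩, -⟩ := hok
        obtain ⟨σ, hσ, rσ⟩ := hget i hi
        obtain ⟨τ, hτ, rτ⟩ := hget j hj
        refine ⟨σ * τ, mul_mem hσ hτ, fun x => ?_⟩
        rw [Equiv.Perm.mul_apply, rσ, rτ, h _ x.isLt]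
      | none =>
        simp only [stepOK, Bool.and_eq_true, decide_eq_true_eq, forBelow_iff, beq_iff_eq] at hok
        obtain ⟨⟨hi, h⟩, -⟩ := hok
        obtain ⟨σ, hσ, rσ⟩ := hget i hi
        refine ⟨σ⁻¹, inv_mem hσ, fun x => ?_⟩
        obtain ⟨h1, h2⟩ := h _ x.isLt
        have : σ ⟨_, h1⟩ = x := Fin.ext ((rσ ⟨_, h1⟩).trans h2)
        rw [Equiv.Perm.inv_eq_iff_eq.2 this.symm]

/-! ### Lower bounds for orders -/

/-- A level: base point, generators fixing the earlier ones, and a tree as triples
(point, position of the parent, position of the generator). -/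
abbrev OLevel : Type := ℕ × List ℕ × List (ℕ × ℕ × ℕ)

/-- Points appended by a tree. -/
def treeOrb (gens : List ℕ) : List ℕ → List (ℕ × ℕ × ℕ) → Bool
  | _, [] => true
  | O, (p, q, g) :: rest => decide (q < O.length) && decide (g < gens.length) &&
      (tget (gens.getD g 0) (O.getD q 0) == p) && treeOrb gens (O ++ [p]) rest

/-- No repetition. -/
def noDup : List ℕ → Bool
  | [] => true
  | a :: l => !(l.contains a) && noDup l

theorem nodup_of_noDup : ∀ {l : List ℕ}, noDup l = true → l.Nodup
  | [], _ => List.nodup_nil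
  | a :: l, h => by
    simp only [noDup, Bool.and_eq_true, Bool.not_eq_true', List.contains_eq_mem,
      decide_eq_false_iff_not] at h
    exact List.nodup_cons.2 ⟨h.1, nodup_of_noDup h.2⟩

/-- The check of a chain of levels. -/
def chainLower (n : ℕ) (strong : List ℕ) : List ℕ → List OLevel → Bool
  | _, [] => true
  | pre, (b, gens, tree) :: rest =>
    decide (b < n) && gens.all (fun g => strong.contains g && pre.all fun p => tget g p == p) &&
      treeOrb gens [b] tree && noDup (b :: tree.map fun e => e.1) &&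
      chainLower n strong (pre ++ [b]) rest

/-- The product of the orbit lengths. -/
def chainProd : List OLevel → ℕ
  | [] => 1
  | (_, _, tree) :: rest => (tree.length + 1) * chainProd rest

/-- The table lists every point once. -/
def permOK (n t : ℕ) : Bool :=
  forBelow n (fun i => decide (tget t i < n)) && noDup ((List.range n).map (tget t))

theorem exists_isTab {t : ℕ} (h : permOK n t = true) : ∃ σ : Perm (Fin n), IsTab σ t := by
  simp only [permOK, Bool.and_eq_true, forBelow_iff, decide_eq_true_eq] at h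
  let f : Fin n → Fin n := fun i => ⟨tget t i.val, h.1 _ i.isLt⟩
  have hf : Function.Injective f := fun i j e => Fin.ext
    (List.inj_on_of_nodup_map (nodup_of_noDup h.2) (List.mem_range.2 i.isLt)
      (List.mem_range.2 j.isLt) (congrArg Fin.val e))
  exact ⟨Equiv.ofBijective f (Finite.injective_iff_bijective.1 hf), fun i => rfl⟩

/-- The members fixing the listed points. -/
def fixSub (H : Subgroup (Perm (Fin n))) (pre : List ℕ) : Subgroup (Perm (Fin n)) where
  carrier := {σ | σ ∈ H ∧ ∀ i : Fin n, i.val ∈ pre → σ i = i}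
  one_mem' := ⟨one_mem H, fun _ _ => rfl⟩
  mul_mem' {a b} ha hb := ⟨mul_mem ha.1 hb.1, fun i hi => by
    rw [Equiv.Perm.mul_apply, hb.2 i hi, ha.2 i hi]⟩
  inv_mem' {a} ha := ⟨inv_mem ha.1, fun i hi => Equiv.Perm.inv_eq_iff_eq.2 (ha.2 i hi).symm⟩

theorem treeOrb_subset {S : Subgroup (Perm (Fin n))} {gens : List ℕ} (hg : ∀ t ∈ gens, InTab S t)
    (b : Fin n) : ∀ (tree : List (ℕ × ℕ × ℕ)) (O : List ℕ),
      (∀ p ∈ O, ∃ x ∈ MulAction.orbit S b, x.val = p) → treeOrb gens O tree = true →
      ∀ p ∈ O ++ tree.map (fun e => e.1), ∃ x ∈ MulAction.orbit S b, x.val = p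
  | [], O, hO, _, p, hp => hO p (by simpa using hp)
  | (q, par, g) :: rest, O, hO, h, p, hp => by
    simp only [treeOrb, Bool.and_eq_true, decide_eq_true_eq, beq_iff_eq] at h
    obtain ⟨⟨⟨h1, h2⟩, h3⟩, h4⟩ := h
    refine treeOrb_subset hg b rest (O ++ [q]) ?_ h4 p (by simpa using hp)
    intro r hr
    rcases List.mem_append.1 hr with hr | hr
    · exact hO r hr
    · obtain ⟨y, hy, ey⟩ := hO (O.getD par 0) (by
        rw [List.getD_eq_getElem _ _ h1]; exact List.getElem_mem h1)
      obtain ⟨σ, hσ, rσ⟩ := hg (gens.getD g 0) (by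
        rw [List.getD_eq_getElem _ _ h2]; exact List.getElem_mem h2)
      refine ⟨σ y, MulAction.mem_orbit_of_mem_orbit (⟨σ, hσ⟩ : S) hy, ?_⟩
      rw [List.mem_singleton.1 hr, rσ, ey, h3]

theorem chainProd_le {H : Subgroup (Perm (Fin n))} {strong : List ℕ}
    (hs : ∀ t ∈ strong, InTab H t) : ∀ (levels : List OLevel) (pre : List ℕ),
      chainLower n strong pre levels = true → chainProd levels ≤ Nat.card (fixSub H pre)
  | [], pre, _ => Nat.card_pos
  | (b, gens, tree) :: rest, pre, h => by
    simp only [chainLower, Bool.and_eq_true, decide_eq_true_eq, List.all_eq_true,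
      List.contains_eq_mem, beq_iff_eq] at h
    obtain ⟨⟨⟨⟨hb, hgens⟩, htree⟩, hnd⟩, hrest⟩ := h
    set S := fixSub H pre
    have hgS : ∀ t ∈ gens, InTab S t := fun t ht => by
      obtain ⟨hts, hfix⟩ := hgens t ht
      obtain ⟨σ, hσ, rσ⟩ := hs t hts
      exact ⟨σ, ⟨hσ, fun i hi => Fin.ext ((rσ i).trans (hfix i.val hi))⟩, rσ⟩
    have horb : tree.length + 1 ≤ (MulAction.orbit S (⟨b, hb⟩ : Fin n)).ncard := by
      have hsub := treeOrb_subset hgS (⟨b, hb⟩ : Fin n) tree [b] (fun p hp =>
        ⟨⟨b, hb⟩, MulAction.mem_orbit_self _, (List.mem_singleton.1 hp).symm⟩) htree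
      have hcard := List.toFinset_card_of_nodup (nodup_of_noDup hnd)
      rw [List.length_cons, List.length_map] at hcard
      rw [← hcard, ← Set.ncard_coe_finset,
        ← Set.ncard_image_of_injective (MulAction.orbit S (⟨b, hb⟩ : Fin n)) Fin.val_injective]
      refine Set.ncard_le_ncard (fun p hp => ?_)
      simp only [Finset.mem_coe, List.mem_toFinset] at hp
      obtain ⟨x, hx, ex⟩ := hsub p (by simpa using hp)
      exact ⟨x, hx, ex⟩
    have hst : chainProd rest ≤ Nat.card (MulAction.stabilizer S (⟨b, hb⟩ : Fin n)) := by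
      refine (chainProd_le hs rest (pre ++ [b]) hrest).trans (Nat.card_le_card_of_injective
        (fun σ => ⟨⟨σ.1, σ.2.1, fun i hi => σ.2.2 i (List.mem_append_left _ hi)⟩,
          σ.2.2 _ (List.mem_append_right _ (List.mem_singleton.2 rfl))⟩) fun a c e => ?_)
      exact Subtype.ext (congrArg (fun z : MulAction.stabilizer S (⟨b, hb⟩ : Fin n) =>
        ((z : S) : Perm (Fin n))) e)
    have hos : Nat.card (MulAction.orbit S (⟨b, hb⟩ : Fin n)) *
        Nat.card (MulAction.stabilizer S (⟨b, hb⟩ : Fin n)) = Nat.card S := by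
      rw [← Nat.card_prod]
      exact Nat.card_congr (MulAction.orbitProdStabilizerEquivGroup S (⟨b, hb⟩ : Fin n))
    rw [chainProd, ← hos, Nat.card_coe_set_eq]
    exact Nat.mul_le_mul horb hst

theorem chainProd_le_card {H : Subgroup (Perm (Fin n))} {strong : List ℕ}
    (hs : ∀ t ∈ strong, InTab H t) (levels : List OLevel)
    (h : chainLower n strong [] levels = true) : chainProd levels ≤ Nat.card H :=
  (chainProd_le hs levels [] h).trans (Nat.card_le_card_of_injective
    (fun σ : fixSub H [] => (⟨σ.1, σ.2.1⟩ : H)) fun a c e => Subtype.ext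
      (congrArg (fun z : H => (z : Perm (Fin n))) e))

end CfsgLib.GraphPerm
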