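import Cfsg.Agent.GraphPerm.HSChecks
import Cfsg.Agent.Leech.ConfigMain

/-!
# The Higman–Sims group has two classes of automorphisms modulo inner ones
-/

set_option autoImplicit false
set_option maxRecDepth 100000

namespace CfsgLib.GraphPerm.HSModel

open Cfsg CfsgLib.Leech CfsgLib.Leech.TreeData CfsgLib.Mathieu
open Equiv (Perm)

theorem vecs_eq : baseD = -Spor.vecV ∧ baseW = Spor.vecV + Spor.vecU' := by decide +kernel

theorem isPairStab : IsPairStab Spor.HS bD bW := by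
  refine ⟨fun g => ?_⟩
  have eD : bD = -Spor.leechV := Subtype.ext vecs_eq.1
  have eW : bW = Spor.leechV + Spor.leechU' := Subtype.ext vecs_eq.2
  constructor
  · rintro ⟨⟨hg, hv⟩, hu⟩
    have hv' : (⟨g, hg⟩ : Co0) • Spor.leechV = Spor.leechV := hv
    have hu' : (⟨g, hg⟩ : Co0) • Spor.leechU' = Spor.leechU' := hu
    refine ⟨hg, ?_, ?_⟩
    · show (⟨g, hg⟩ : Co0) • bD = bD
      rw [eD, co0_neg, hv']
    · show (⟨g, hg⟩ : Co0) • bW = bW
      rw [eW, co0_add, hv', hu']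
  · rintro ⟨hg, h1, h2⟩
    have h1' : (⟨g, hg⟩ : Co0) • bD = bD := h1
    have h2' : (⟨g, hg⟩ : Co0) • bW = bW := h2
    rw [eD, co0_neg, neg_inj] at h1'
    rw [eW, co0_add, h1', add_right_inj] at h2'
    exact ⟨⟨hg, h1'⟩, h2'⟩

theorem root_fix {g : Perm leechLattice} (hg : g ∈ Spor.HS) : g (bD + bW) = bD + bW := by
  obtain ⟨hc, h1, h2⟩ := (isPairStab.mem_iff g).1 hg
  have h1' : (⟨g, hc⟩ : Co0) • bD = bD := h1
  have h2' : (⟨g, hc⟩ : Co0) • bW = bW := h2
  show (⟨g, hc⟩ : Co0) • (bD + bW) = bD + bW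
  rw [co0_add, h1', h2']

theorem root_reach {x : GolayPt → ℤ} (hx : x ∈ dotSet baseD 16) :
    ∃ g : Co0, g • bD = bD ∧ ((g • (bD + bW) : leechLattice) : GolayPt → ℤ) = x := by
  have hroot : ((bD + bW : leechLattice) : GolayPt → ℤ) = vec co3mRoot :=
    base_facts.2.2.2.2.2.2.2.2.2.2.2
  obtain ⟨g, e, hF⟩ := exists_smul_of_reach (x := bD + bW) (y := ⟨x, hx.1⟩)
    (show ReachL (co3mFix.map vec) (vec co3mRoot) ((bD + bW : leechLattice) : GolayPt → ℤ) from by
      rw [hroot]; exact ReachG.refl _ (hroot ▸ (bD + bW).2))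
    (reach_of_tree co3m_tree (dotSet_finite _ _) ncard_dotSet_D16.le sub11178 hx)
  exact ⟨g, hF bD (by simp [bD, baseD, co3mFix, co3vFix]), congrArg Subtype.val e⟩

theorem root_sub (g : Co0) (hg : g • bD = bD) :
    ((g • (bD + bW) : leechLattice) : GolayPt → ℤ) ∈ dotSet baseD 16 := by
  have hd : dotInt baseD ((bD + bW : leechLattice) : GolayPt → ℤ) = 16 := by decide +kernel
  have hn : sqNorm ((bD + bW : leechLattice) : GolayPt → ℤ) = 32 := by decide +kernel
  exact ⟨(g • (bD + bW)).2, by rw [co0_norm]; exact hn, (smul_dot_eq hg _).trans hd⟩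

theorem natCard_le : Finite Spor.HS ∧ Nat.card Spor.HS ≤ 11 * data.N := by
  obtain ⟨hfin, h⟩ := isPairStab.natCard_le (m := 11178) (dotSet baseD 16) ncard_dotSet_D16
    (by norm_num) (bD + bW) (fun _ hg => root_fix hg)
    (fun g h1 h2 => by rw [co0_add, h1] at h2; exact add_left_cancel h2)
    (fun _ hx => root_reach hx) root_sub
  refine ⟨hfin, ?_⟩
  rw [card_stab_norm48 (v := bD) base_facts.1.2] at h
  have hN : 11 * data.N = 44352000 := by decide +kernel
  rw [hN]
  omega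

theorem exists_rho : ∃ ρ : Spor.HS →* Perm (Fin data.n), (∀ t ∈ data.gens, InTab ρ.range t) ∧
    ∀ σ : Perm (Fin data.n), IsTab σ data.sg → σ ∉ ρ.range := by
  obtain ⟨ρ, hρ⟩ := exists_model (n := 100) isPairStab set100_finite ncard_set100.le sub100
    (fun g h1 h2 v hv => ⟨⟨(g • v).2, by rw [co0_norm]; exact hv.1.2.1,
      (smul_dot_eq h1 v).trans hv.1.2.2⟩, (smul_dot_eq h2 v).trans hv.2⟩) hs_tree codes_ok
  have h1 : (bD : GolayPt → ℤ) = vec hsFix[0] := by decide +kernel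
  have h2 : (bW : GolayPt → ℤ) = vec hsFix[1] := rfl
  refine ⟨ρ, fun t ht => ?_, fun σ hσ =>
    not_inTab_of_comb isPairStab h1 h2 hs_tree codes_ok hρ outer_ok hσ⟩
  have hgen : ∀ u ∈ moveTabs, InTab ρ.range u := by
    intro u hu
    obtain ⟨i, hi, rfl⟩ := List.getElem_of_mem hu
    have hi' : i < moves.length := moves_ok.2 ▸ hi
    refine inTab_of_moves (ms := moves[i]) isPairStab h1 h2 hs_tree codes_ok hρ ?_
    have hmem : (moves[i], moveTabs[i]) ∈ moves.zip moveTabs :=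
      List.mem_iff_getElem.mpr ⟨i, by rw [List.length_zip]; omega, List.getElem_zip⟩
    have := List.all_eq_true.1 moves_ok.1 _ hmem
    rwa [← fix_pair] at this
  refine inTab_slp steps3 moveTabs hgen steps3_ok.1 t ?_
  exact List.contains_iff_mem.1 (List.all_eq_true.1 steps3_ok.2 t ht)

theorem card_out : Nat.card (Cfsg.Out Spor.HS) = 2 := by
  obtain ⟨hfin, hle⟩ := natCard_le
  obtain ⟨ρ, hgens, hout⟩ := exists_rho
  obtain ⟨σ, rσ⟩ := exists_isTab (n := data.n) sg_ok
  exact (card_out_range ρ (show Nat.Prime 11 by norm_num) baseOK normOK orderOK searchOK rigidOK hle hgens rσ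
    (hout σ rσ)).2.2

end CfsgLib.GraphPerm.HSModel
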