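import Cfsg.Agent.GraphPerm.McLChecks
import Cfsg.Agent.Leech.ConfigMain

/-!
# The McLaughlin group has two classes of automorphisms modulo inner ones
-/

set_option autoImplicit false
set_option maxRecDepth 100000

namespace CfsgLib.GraphPerm.McLModel

open Cfsg CfsgLib.Leech CfsgLib.Leech.TreeData CfsgLib.Mathieu
open Equiv (Perm)

theorem vecs_eq : baseD = -Spor.vecV ∧ baseA = Spor.vecU := by decide +kernel

theorem isPairStab : IsPairStab Spor.McL bD bA := by
  refine ⟨fun g => ?_⟩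
  have eD : bD = -Spor.leechV := Subtype.ext vecs_eq.1
  have eA : bA = Spor.leechU := Subtype.ext vecs_eq.2
  constructor
  · rintro ⟨⟨hg, hv⟩, hu⟩
    have hv' : (⟨g, hg⟩ : Co0) • Spor.leechV = Spor.leechV := hv
    refine ⟨hg, ?_, ?_⟩
    · show (⟨g, hg⟩ : Co0) • bD = bD
      rw [eD, co0_neg, hv']
    · rw [eA]; exact hu
  · rintro ⟨hg, h1, h2⟩
    have h1' : (⟨g, hg⟩ : Co0) • bD = bD := h1
    rw [eD, co0_neg, neg_inj] at h1'
    rw [eA] at h2
    exact ⟨⟨hg, h1'⟩, h2⟩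

theorem root_reach {x : GolayPt → ℤ} (hx : x ∈ dotSet baseD 24) :
    ∃ g : Co0, g • bD = bD ∧ ((g • bA : leechLattice) : GolayPt → ℤ) = x := by
  obtain ⟨g, e, hF⟩ := exists_smul_of_reach (x := bA) (y := ⟨x, hx.1⟩)
    (show ReachL (co3vFix.map vec) (vec co3vRoot) (bA : GolayPt → ℤ) from ReachG.refl _ bA.2)
    (reach_of_tree co3v_tree (dotSet_finite _ _) ncard_dotSet_D.le sub552 hx)
  exact ⟨g, hF bD (by simp [bD, baseD, co3vFix]), congrArg Subtype.val e⟩

theorem root_sub (g : Co0) (hg : g • bD = bD) :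
    ((g • bA : leechLattice) : GolayPt → ℤ) ∈ dotSet baseD 24 :=
  ⟨(g • bA).2, by rw [co0_norm]; exact base_facts.2.1.2,
    (smul_dot_eq hg _).trans base_facts.2.2.2.2.2.1⟩

theorem natCard_le : Finite Spor.McL ∧ Nat.card Spor.McL ≤ 11 * data.N := by
  obtain ⟨hfin, h⟩ := isPairStab.natCard_le (m := 552) (dotSet baseD 24) ncard_dotSet_D
    (by norm_num) bA (fun g hg => ((isPairStab.mem_iff g).1 hg).2.2)
    (fun _ _ h2 => h2) (fun _ hx => root_reach hx) root_sub
  refine ⟨hfin, ?_⟩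
  rw [card_stab_norm48 (v := bD) base_facts.1.2] at h
  have hN : 11 * data.N = 898128000 := by decide +kernel
  rw [hN]
  omega

theorem exists_rho : ∃ ρ : Spor.McL →* Perm (Fin data.n), (∀ t ∈ data.gens, InTab ρ.range t) ∧
    ∀ σ : Perm (Fin data.n), IsTab σ data.sg → σ ∉ ρ.range := by
  obtain ⟨ρ, hρ⟩ := exists_model (n := 275) isPairStab set275_finite ncard_set275.le sub275
    (fun g h1 h2 v hv => ⟨⟨(g • v).2, by rw [co0_norm]; exact hv.1.2.1,
      (smul_dot_eq h1 v).trans hv.1.2.2⟩, (smul_dot_eq h2 v).trans hv.2⟩) mcl_tree codes_ok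
  have h1 : (bD : GolayPt → ℤ) = vec mclFix[0] := by decide +kernel
  have h2 : (bA : GolayPt → ℤ) = vec mclFix[1] := rfl
  refine ⟨ρ, fun t ht => ?_, fun σ hσ =>
    not_inTab_of_comb isPairStab h1 h2 mcl_tree codes_ok hρ outer_ok hσ⟩
  have hgen : ∀ u ∈ moveTabs, InTab ρ.range u := by
    intro u hu
    obtain ⟨i, hi, rfl⟩ := List.getElem_of_mem hu
    have hi' : i < moves.length := moves_ok.2 ▸ hi
    refine inTab_of_moves (ms := moves[i]) isPairStab h1 h2 mcl_tree codes_ok hρ ?_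
    have hmem : (moves[i], moveTabs[i]) ∈ moves.zip moveTabs :=
      List.mem_iff_getElem.mpr ⟨i, by rw [List.length_zip]; omega, List.getElem_zip⟩
    have := List.all_eq_true.1 moves_ok.1 _ hmem
    rwa [← fix_pair] at this
  refine inTab_slp steps3 moveTabs hgen steps3_ok.1 t ?_
  exact List.contains_iff_mem.1 (List.all_eq_true.1 steps3_ok.2 t ht)

theorem card_out : Nat.card (Cfsg.Out Spor.McL) = 2 := by
  obtain ⟨hfin, hle⟩ := natCard_le
  obtain ⟨ρ, hgens, hout⟩ := exists_rho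
  obtain ⟨σ, rσ⟩ := exists_isTab (n := data.n) sg_ok
  exact (card_out_range ρ (show Nat.Prime 11 by norm_num) baseOK normOK orderOK searchOK rigidOK hle hgens rσ
    (hout σ rσ)).2.2

end CfsgLib.GraphPerm.McLModel
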