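import Cfsg.Agent.GraphPerm.Table
import Cfsg.Prelude.Def_SporadicB
import Mathlib.GroupTheory.SpecificGroups.Alternating
import Mathlib.GroupTheory.Sylow

/-!
# Tools for the centraliser of an involution in a permutation group given by tables
-/

set_option autoImplicit false

namespace CfsgLib.GraphPerm

open Equiv (Perm)
open scoped Pointwise

variable {n : ℕ}

/-- A subgroup with a chain of full size inside a finite subgroup is all of it. -/
theorem eq_of_chain {M K : Subgroup (Perm (Fin n))} (hle : M ≤ K) {L : List ℕ}
    {steps : List SStep} {levels : List OLevel} (hL : ∀ t ∈ L, InTab M t)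
    (hs : slpOK n L steps = true)
    (hc : (levels.flatMap fun l => l.2.1).all (slpTabs L steps).contains = true)
    (hch : chainLower n (levels.flatMap fun l => l.2.1) [] levels = true)
    (hK : Nat.card K ≤ chainProd levels) : M = K := by
  refine Subgroup.eq_of_le_of_card_ge hle (hK.trans (chainProd_le_card (fun t ht => ?_) levels hch))
  exact inTab_slp steps L hL hs t (List.contains_iff_mem.1 (List.all_eq_true.1 hc t ht))

/-- The lower bound for the order given by generators, a program and a chain. -/
theorem le_card_of_chain {M : Subgroup (Perm (Fin n))} {L : List ℕ} {steps : List SStep}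
    {levels : List OLevel} (hL : ∀ t ∈ L, InTab M t) (hs : slpOK n L steps = true)
    (hc : (levels.flatMap fun l => l.2.1).all (slpTabs L steps).contains = true)
    (hch : chainLower n (levels.flatMap fun l => l.2.1) [] levels = true) :
    chainProd levels ≤ Nat.card M :=
  chainProd_le_card (fun t ht => inTab_slp steps L hL hs t
    (List.contains_iff_mem.1 (List.all_eq_true.1 hc t ht))) levels hch

/-- A subgroup whose members all have tables in a list is no larger than the list. -/
theorem card_le_length {M : Subgroup (Perm (Fin n))} {L : List ℕ}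
    (h : ∀ σ ∈ M, ∃ t ∈ L, IsTab σ t) : Nat.card M ≤ L.length := by
  choose f hf hr using fun σ : M => h σ.1 σ.2
  refine (Nat.card_le_card_of_injective (β := {t // t ∈ L.toFinset})
    (fun σ => ⟨f σ, List.mem_toFinset.2 (hf σ)⟩) fun σ τ e => Subtype.ext ?_).trans ?_
  · have e' : f σ = f τ := congrArg Subtype.val e
    exact (hr σ).unique (by rw [e']; exact hr τ)
  · rw [Nat.card_eq_fintype_card, Fintype.card_coe]
    exact List.toFinset_card_le L

/-- The bound from the orbit of one point and its stabiliser. -/
theorem card_le_orbit {T : Subgroup (Perm (Fin n))} (a : Fin n) {A : List ℕ}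
    (hA : ∀ g ∈ T, (g a).val ∈ A) :
    Nat.card T ≤ A.length * Nat.card ↥(T ⊓ MulAction.stabilizer (Perm (Fin n)) a) := by
  have horb : Nat.card (MulAction.orbit T a) ≤ A.length := by
    refine (Nat.card_le_card_of_injective (β := {q // q ∈ A.toFinset})
      (fun q => ⟨q.1.val, ?_⟩) ?_).trans ?_
    · obtain ⟨g, hg⟩ := q.2
      rw [List.mem_toFinset, ← hg]
      exact hA g.1 g.2
    · intro q q' e
      exact Subtype.ext (Fin.ext (congrArg Subtype.val e :))
    · rw [Nat.card_eq_fintype_card, Fintype.card_coe]
      exact List.toFinset_card_le A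
  have hst : Nat.card (MulAction.stabilizer T a) ≤
      Nat.card ↥(T ⊓ MulAction.stabilizer (Perm (Fin n)) a) :=
    Nat.card_le_card_of_injective (fun g => ⟨g.1.1, g.1.2, g.2⟩) fun g g' e =>
      Subtype.ext (Subtype.ext (congrArg Subtype.val e :))
  rw [← Nat.card_congr (MulAction.orbitProdStabilizerEquivGroup T a), Nat.card_prod]
  exact Nat.mul_le_mul horb hst

/-- A step of a program checked against the full list of tables. -/
def stepFlat (n : ℕ) (all : List ℕ) (k : ℕ) : SStep → Bool
  | (i, some j, T) => decide (i < k) && decide (j < k) &&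
      forBelow n fun x => tget T x == tget (all.getD i 0) (tget (all.getD j 0) x)
  | (i, none, T) => decide (i < k) &&
      forBelow n fun x => decide (tget T x < n) && tget (all.getD i 0) (tget T x) == x

/-- The check of a long program, all steps looking into one list. -/
def slpFlat (n : ℕ) (L : List ℕ) (steps : List SStep) : Bool :=
  forBelow steps.length fun k =>
    stepFlat n (slpTabs L steps) (L.length + k) (steps.getD k (0, none, 0))

theorem inTab_flat {H : Subgroup (Perm (Fin n))} {L : List ℕ} {steps : List SStep}
    (hL : ∀ t ∈ L, InTab H t) (h : slpFlat n L steps = true) :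
    ∀ t ∈ slpTabs L steps, InTab H t := by
  simp only [slpFlat, forBelow_iff] at h
  have hlen : (slpTabs L steps).length = L.length + steps.length := by simp [slpTabs]
  have key : ∀ m, m < (slpTabs L steps).length → InTab H ((slpTabs L steps).getD m 0) := by
    intro m
    induction m using Nat.strong_induction_on with
    | _ m ih =>
      intro hm
      by_cases hmL : m < L.length
      · rw [slpTabs, List.getD_append _ _ _ _ hmL, List.getD_eq_getElem _ _ hmL]
        exact hL _ (List.getElem_mem _)
      · obtain ⟨k, rfl⟩ := Nat.exists_eq_add_of_le (Nat.le_of_not_lt hmL)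
        have hk : k < steps.length := by omega
        have hs := h k hk
        have e : (slpTabs L steps).getD (L.length + k) 0 = (steps.getD k (0, none, 0)).2.2 := by
          rw [slpTabs, List.getD_append_right _ _ _ _ (Nat.le_add_right _ _),
            Nat.add_sub_cancel_left, List.getD_eq_getElem _ _ (by simpa using hk),
            List.getElem_map, List.getD_eq_getElem _ _ hk]
        rw [e]
        generalize steps.getD k (0, none, 0) = st at hs
        obtain ⟨i, o, T⟩ := st
        cases o with
        | some j =>
          simp only [stepFlat, Bool.and_eq_true, decide_eq_true_eq, forBelow_iff,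
            beq_iff_eq] at hs
          obtain ⟨⟨hi, hj⟩, hT⟩ := hs
          obtain ⟨σ, hσ, rσ⟩ := ih i hi (by omega)
          obtain ⟨τ, hτ, rτ⟩ := ih j hj (by omega)
          refine ⟨σ * τ, mul_mem hσ hτ, fun x => ?_⟩
          rw [Equiv.Perm.mul_apply, rσ, rτ, hT _ x.isLt]
        | none =>
          simp only [stepFlat, Bool.and_eq_true, decide_eq_true_eq, forBelow_iff,
            beq_iff_eq] at hs
          obtain ⟨hi, hT⟩ := hs
          obtain ⟨σ, hσ, rσ⟩ := ih i hi (by omega)
          refine ⟨σ⁻¹, inv_mem hσ, fun x => ?_⟩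
          obtain ⟨h1, h2⟩ := hT _ x.isLt
          have : σ ⟨_, h1⟩ = x := Fin.ext ((rσ ⟨_, h1⟩).trans h2)
          rw [Equiv.Perm.inv_eq_iff_eq.2 this.symm]
  intro t ht
  obtain ⟨m, hm, rfl⟩ := List.getElem_of_mem ht
  have := key m hm
  rwa [List.getD_eq_getElem _ _ hm] at this

/-- If every element of a Sylow subgroup of order two is conjugate to `t`, then all are. -/
theorem isConj_of_sylow {G : Type*} [Group G] [Finite G] {p : ℕ} [Fact p.Prime] (P : Sylow p G)
    (t : G) (h : ∀ x ∈ P, orderOf x = p → IsConj x t) {x : G} (hx : orderOf x = p) :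
    IsConj x t := by
  have hp : IsPGroup p (Subgroup.zpowers x) :=
    IsPGroup.of_card (n := 1) (by rw [Nat.card_zpowers, hx, pow_one])
  obtain ⟨Q, hQ⟩ := hp.exists_le_sylow
  obtain ⟨g, hg⟩ := MulAction.exists_smul_eq G Q P
  have hmem : g * x * g⁻¹ ∈ P := by
    rw [← hg]
    have : MulAut.conj g • x ∈ MulAut.conj g • (Q : Subgroup G) :=
      Subgroup.smul_mem_pointwise_smul _ _ _ (hQ (Subgroup.mem_zpowers x))
    show g * x * g⁻¹ ∈ ((g • Q : Sylow _ G) : Subgroup G)
    rw [Sylow.coe_subgroup_smul]
    simpa [MulAut.smul_def] using this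
  have hc : IsConj x (g * x * g⁻¹) := isConj_iff.2 ⟨g, rfl⟩
  refine hc.trans (h _ hmem ?_)
  rw [← hx]
  exact orderOf_injective (MulAut.conj g).toMonoidHom (MulAut.conj g).injective x

/-- A central extension of the alternating group by an involution which is a square. -/
theorem isNonsplitDoubleCover_alt {G : Type*} [Group G] [Finite G] {m : ℕ} (hm : 5 ≤ m)
    (f : G →* alternatingGroup (Fin m)) (hf : Function.Surjective f)
    (hcard : Nat.card G = 2 * Nat.card (alternatingGroup (Fin m))) {t s : G} (ht : t ≠ 1)
    (htc : ∀ x, x * t = t * x) (hs : s * s = t) :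
    Cfsg.IsNonsplitDoubleCover G (alternatingGroup (Fin m)) := by
  have hker : Nat.card f.ker = 2 := by
    have h := Subgroup.card_eq_card_quotient_mul_card_subgroup f.ker
    rw [Nat.card_congr (QuotientGroup.quotientKerEquivOfSurjective f hf).toEquiv, hcard,
      Nat.mul_comm (Nat.card (alternatingGroup (Fin m)))] at h
    exact (Nat.eq_of_mul_eq_mul_right Nat.card_pos h).symm
  have htmem : t ∈ Subgroup.center G := Subgroup.mem_center_iff.2 htc
  have hle : Subgroup.center G ≤ f.ker := by
    intro z hz
    have hz' : f z ∈ Subgroup.center (alternatingGroup (Fin m)) := by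
      refine Subgroup.mem_center_iff.2 fun y => ?_
      obtain ⟨x, rfl⟩ := hf y
      rw [← map_mul, ← map_mul, Subgroup.mem_center_iff.1 hz]
    rw [alternatingGroup.center_eq_bot (by rw [Nat.card_fin]; omega)] at hz'
    exact Subgroup.mem_bot.1 hz'
  have hc2 : Nat.card (Subgroup.center G) = 2 := by
    refine le_antisymm ((Subgroup.card_le_of_le hle).trans hker.le) ?_
    refine (Subgroup.one_lt_card_iff_ne_bot _).2 fun hb => ht ?_
    exact Subgroup.mem_bot.1 (hb ▸ htmem)
  have heq : Subgroup.center G = f.ker :=
    Subgroup.eq_of_le_of_card_ge hle (hker.le.trans hc2.ge)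
  refine ⟨hc2, ⟨(QuotientGroup.quotientMulEquivOfEq heq).trans
    (QuotientGroup.quotientKerEquivOfSurjective f hf)⟩, fun L hL => ht ?_⟩
  have hi : L.index = 2 := by
    rw [Subgroup.IsComplement'.index_eq_card hL]
    exact hc2
  exact Subgroup.mem_bot.1 (hL.disjoint.eq_bot ▸ Subgroup.mem_inf.2
    ⟨htmem, hs ▸ Subgroup.mul_self_mem_of_index_two hi s⟩)

end CfsgLib.GraphPerm
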