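import Cfsg.Agent.GraphPerm.HSData

/-!
# The kernel checks for the HS data: searches

The checks come in pieces which are elaborated one after the other, and the file has few imports:
this keeps the memory low.
-/

set_option autoImplicit false
set_option maxRecDepth 100000
set_option Elab.async false

namespace CfsgLib.GraphPerm.HSModel

theorem searchSide_ok : data.searchSide = true := by decide +kernel
theorem searchA_0 : searchPart 100 data.R data.a data.r data.BA data.LA 0 100 data.levA = true := by decide +kernel
theorem searchB_0 : searchPart 100 data.R data.b data.s data.BB data.LB 0 33 data.levB = true := by decide +kernel
theorem searchB_1 : searchPart 100 data.R data.b data.s data.BB data.LB 33 34 data.levB = true := by decide +kernel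
theorem searchB_2 : searchPart 100 data.R data.b data.s data.BB data.LB 67 33 data.levB = true := by decide +kernel

theorem searchOK : data.searchOK = true :=
  RData.searchOK_of searchSide_ok searchA_0
    (searchPart_add (c := 67) (d := 33) (searchPart_add (c := 33) (d := 34) searchB_0 searchB_1) searchB_2)

end CfsgLib.GraphPerm.HSModel
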