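import Cfsg.Agent.GraphPerm.Table
import Cfsg.Agent.Leech.Configs
import Cfsg.Agent.Leech.Co0Order
import Cfsg.Prelude.Def_Spor_Conway

/-!
# Stabilisers of two lattice vectors as permutation groups of an orbit of vectors

The vectors are numbered by a list of packed forms; checked move sequences give tables of members
of the image, and a combination of the numbered vectors divisible in the lattice before but not
after a permutation shows that permutation outside the image.
-/

set_option autoImplicit false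

namespace CfsgLib.GraphPerm

open Cfsg CfsgLib.Leech CfsgLib.Mathieu
open Equiv (Perm)

/-- The members of `H` lie in `Co0` and fix `f₁`, `f₂`; those of `Co0` fixing both lie in `H`. -/
structure IsPairStab (H : Subgroup (Perm leechLattice)) (f₁ f₂ : leechLattice) : Prop where
  mem_iff : ∀ g : Perm leechLattice, g ∈ H ↔ g ∈ Co0 ∧ g f₁ = f₁ ∧ g f₂ = f₂

theorem IsPairStab.natCard_le {H : Subgroup (Perm leechLattice)} {f₁ f₂ : leechLattice}
    (hH : IsPairStab H f₁ f₂) {m : ℕ} (S : Set (GolayPt → ℤ))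
    (hS : S.ncard = m) (hm : m ≠ 0) (root : leechLattice)
    (hroot : ∀ g : Perm leechLattice, g ∈ H → g root = root)
    (hfix : ∀ g : Co0, g • f₁ = f₁ → g • root = root → g • f₂ = f₂)
    (htr : ∀ x ∈ S, ∃ g : Co0, g • f₁ = f₁ ∧ ((g • root : leechLattice) : GolayPt → ℤ) = x)
    (hsub : ∀ g : Co0, g • f₁ = f₁ → ((g • root : leechLattice) : GolayPt → ℤ) ∈ S) :
    Finite H ∧ Nat.card H * m ≤ Nat.card (MulAction.stabilizer Co0 f₁) := by
  have := co0_finite
  let T := MulAction.stabilizer Co0 f₁
  have horb : (fun w : leechLattice => (w : GolayPt → ℤ)) '' MulAction.orbit T root = S := by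
    ext x
    constructor
    · rintro ⟨w, ⟨g, rfl⟩, rfl⟩
      exact hsub g.1 g.2
    · intro hx
      obtain ⟨g, hg, e⟩ := htr x hx
      exact ⟨_, ⟨⟨g, hg⟩, rfl⟩, e⟩
  have hidx : (MulAction.stabilizer T root).index = m := by
    rw [MulAction.index_stabilizer, ← Set.ncard_image_of_injective _ Subtype.val_injective, horb, hS]
  let f : H → MulAction.stabilizer T root := fun g =>
    ⟨⟨⟨g.1, ((hH.mem_iff g.1).1 g.2).1⟩, ((hH.mem_iff g.1).1 g.2).2.1⟩, hroot g.1 g.2⟩
  have hf : Function.Injective f := fun g g' e =>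
    Subtype.ext (congrArg (fun z : MulAction.stabilizer T root => ((z : T) : Co0).1) e)
  have hfin : Finite H := Finite.of_injective f hf
  refine ⟨hfin, ?_⟩
  rw [← Subgroup.index_mul_card (MulAction.stabilizer T root), hidx, Nat.mul_comm m]
  exact Nat.mul_le_mul_right m (Nat.card_le_card_of_injective f hf)

/-- The numbered vectors. -/
def codeVec (codes : List ℕ) (i : ℕ) : GolayPt → ℤ := vec (dec (codes.getD i 0))

/-- The codes are distinct members of a tree. -/
noncomputable def codesOK (n : ℕ) (gens : List (List Mv)) (root : List ℤ) (lvls codes : List ℕ) : Bool :=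
  let L := treeList gens [penc root] lvls
  codes.length == n && distinctB codes && codes.all fun c => L.contains c

/-- A move sequence fixes the two vectors and induces the table. -/
def moveTabOK (n : ℕ) (F : List (List ℤ)) (codes : List ℕ) (ms : List Mv) (t : ℕ) : Bool :=
  ms.all Mv.ok && F.all (fun f => runMoves ms f == f) &&
    forBelow n fun i => decide (tget t i < n) &&
      ms.foldl pact (codes.getD i 0) == codes.getD (tget t i) 0

section

variable {n : ℕ} {H : Subgroup (Perm leechLattice)} {f₁ f₂ : leechLattice}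
  {S : Set (GolayPt → ℤ)} {codes : List ℕ} {gens : List (List Mv)} {F : List (List ℤ)}
  {root : List ℤ} {lvls : List ℕ} {N : ℕ}

theorem codes_good (htree : treeOK F gens root lvls N = true)
    (hcodes : codesOK n gens root lvls codes = true) :
    codes.length = n ∧ codes.Nodup ∧ ∀ i, i < n → TreeGood F root (codes.getD i 0) := by
  simp only [treeOK, Bool.and_eq_true] at htree
  simp only [codesOK, Bool.and_eq_true, beq_iff_eq, List.all_eq_true, List.contains_eq_mem,
    decide_eq_true_eq] at hcodes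
  obtain ⟨⟨hlen, hd⟩, hmem⟩ := hcodes
  refine ⟨hlen, nodup_of_distinctB hd, fun i hi => ?_⟩
  exact good_of_root htree.1.1.1 (by simpa using htree.1.1.2) htree.1.2 lvls _
    (hmem _ (by rw [List.getD_eq_getElem _ _ (hlen ▸ hi)]; exact List.getElem_mem _))

theorem codeVec_inj (htree : treeOK F gens root lvls N = true)
    (hcodes : codesOK n gens root lvls codes = true) {i j : ℕ} (hi : i < n) (hj : j < n)
    (h : codeVec codes i = codeVec codes j) : i = j := by
  obtain ⟨hlen, hnd, hgood⟩ := codes_good htree hcodes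
  have e : dec (codes.getD i 0) = dec (codes.getD j 0) := by
    rw [← toList_vec (dec_length (codes.getD i 0)), show vec (dec (codes.getD i 0)) =
      vec (dec (codes.getD j 0)) from h, toList_vec (dec_length _)]
  have e' : codes.getD i 0 = codes.getD j 0 := by rw [← (hgood i hi).1, e, (hgood j hj).1]
  rw [List.getD_eq_getElem _ _ (hlen ▸ hi), List.getD_eq_getElem _ _ (hlen ▸ hj)] at e'
  exact (hnd.getElem_inj_iff).1 e'

/-- The image in `Perm (Fin n)`. -/
theorem exists_model (hH : IsPairStab H f₁ f₂) (hfin : S.Finite) (hcard : S.ncard ≤ n)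
    (hsub : ∀ x, ReachL (F.map vec) (vec root) x → x ∈ S)
    (hinv : ∀ g : Co0, g • f₁ = f₁ → g • f₂ = f₂ →
      ∀ v : leechLattice, (v : GolayPt → ℤ) ∈ S → ((g • v : leechLattice) : GolayPt → ℤ) ∈ S)
    (htree : treeOK F gens root lvls N = true) (hcodes : codesOK n gens root lvls codes = true) :
    ∃ ρ : H →* Perm (Fin n), ∀ (h : H) (i : Fin n) (v : leechLattice),
      (v : GolayPt → ℤ) = codeVec codes i.val →
        ((h.1 v : leechLattice) : GolayPt → ℤ) = codeVec codes (ρ h i).val := by
  obtain ⟨hlen, hnd, hgood⟩ := codes_good htree hcodes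
  have hmemS : ∀ i : Fin n, codeVec codes i.val ∈ S := fun i => hsub _ (hgood i i.isLt).2.2
  have hinj : Function.Injective fun i : Fin n => codeVec codes i.val := fun i j e =>
    Fin.ext (codeVec_inj htree hcodes i.isLt j.isLt e)
  have hS : S = Set.range fun i : Fin n => codeVec codes i.val := by
    symm
    refine Set.eq_of_subset_of_ncard_le ?_ ?_ hfin
    · rintro _ ⟨i, rfl⟩; exact hmemS i
    · rw [Set.ncard_range_of_injective hinj, Nat.card_fin]; exact hcard
  let v : Fin n → leechLattice := fun i => ⟨codeVec codes i.val, (hgood i i.isLt).2.2.mem_right⟩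
  have hvinj : Function.Injective v := fun i j e => hinj (congrArg Subtype.val e)
  have hstep : ∀ (h : H) (i : Fin n), ∃ j : Fin n, h.1 (v i) = v j := fun h i => by
    obtain ⟨hg, h1, h2⟩ := (hH.mem_iff h.1).1 h.2
    have := hinv ⟨h.1, hg⟩ h1 h2 (v i) (hmemS i)
    rw [hS] at this
    obtain ⟨j, hj⟩ := this
    exact ⟨j, Subtype.ext hj.symm⟩
  choose p hp using hstep
  have hpinj : ∀ h, Function.Injective (p h) := fun h i j e =>
    hvinj (h.1.injective (by rw [hp, hp, e]))
  let ρ : H →* Perm (Fin n) :=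
    { toFun := fun h => Equiv.ofBijective (p h) (Finite.injective_iff_bijective.1 (hpinj h))
      map_one' := Equiv.ext fun i => hvinj ((hp 1 i).symm.trans rfl)
      map_mul' := fun g h => Equiv.ext fun i => hvinj (by
        show v (p (g * h) i) = v (p g (p h i))
        rw [← hp, ← hp, Subgroup.coe_mul, Equiv.Perm.mul_apply, hp h i]) }
  refine ⟨ρ, fun h i w hw => ?_⟩
  rw [show w = v i from Subtype.ext hw, hp]
  rfl

/-- Tables of move sequences lie in the image. -/
theorem inTab_of_moves (hH : IsPairStab H f₁ f₂) {l₁ l₂ : List ℤ}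
    (h₁ : (f₁ : GolayPt → ℤ) = vec l₁) (h₂ : (f₂ : GolayPt → ℤ) = vec l₂)
    (htree : treeOK F gens root lvls N = true) (hcodes : codesOK n gens root lvls codes = true)
    {ρ : H →* Perm (Fin n)}
    (hρ : ∀ (h : H) (i : Fin n) (v : leechLattice), (v : GolayPt → ℤ) = codeVec codes i.val →
      ((h.1 v : leechLattice) : GolayPt → ℤ) = codeVec codes (ρ h i).val)
    {ms : List Mv} {t : ℕ} (hok : moveTabOK n [l₁, l₂] codes ms t = true) :
    InTab ρ.range t := by
  obtain ⟨hlen, hnd, hgood⟩ := codes_good htree hcodes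
  simp only [moveTabOK, Bool.and_eq_true, forBelow_iff, decide_eq_true_eq, beq_iff_eq,
    List.all_eq_true, List.mem_cons, List.not_mem_nil, or_false, forall_eq_or_imp, forall_eq]
    at hok
  obtain ⟨⟨hmv, hf1, hf2⟩, htab⟩ := hok
  have hmv' : ms.all Mv.ok = true := List.all_eq_true.2 hmv
  obtain ⟨g, -, hg⟩ := runMoves_spec ms hmv'
  have hmem : g.1 ∈ H := by
    refine (hH.mem_iff g.1).2 ⟨g.2, ?_, ?_⟩
    · show g • f₁ = f₁
      have e : f₁ = ⟨vec l₁, h₁ ▸ f₁.2⟩ := Subtype.ext h₁
      rw [e]; exact Subtype.ext ((hg l₁ _).trans (by rw [hf1]))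
    · show g • f₂ = f₂
      have e : f₂ = ⟨vec l₂, h₂ ▸ f₂.2⟩ := Subtype.ext h₂
      rw [e]; exact Subtype.ext ((hg l₂ _).trans (by rw [hf2]))
  refine ⟨ρ ⟨g.1, hmem⟩, ⟨_, rfl⟩, fun i => ?_⟩
  obtain ⟨hlt, hpact⟩ := htab i.val i.isLt
  obtain ⟨hp, hn, hr⟩ := hgood i i.isLt
  have e := hρ ⟨g.1, hmem⟩ i ⟨codeVec codes i.val, hr.mem_right⟩ rfl
  obtain ⟨er, -⟩ := prun_spec ms hmv' (codes.getD i.val 0) hr.mem_right hn hp
  refine codeVec_inj htree hcodes (Fin.isLt _) hlt ?_
  rw [← e]
  show ((g • (⟨vec (dec (codes.getD i.val 0)), _⟩ : leechLattice) : leechLattice) : GolayPt → ℤ) = _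
  rw [hg, ← er, hpact]
  rfl

/-- The combination of the numbered vectors, permuted by a table, and of two further vectors. -/
def combL (codes : List ℕ) (t : ℕ → ℕ) (cs : List (ℕ × ℤ)) (l₁ l₂ : List ℤ) (c₁ c₂ : ℤ) : List ℤ :=
  (List.range 24).map fun p =>
    (cs.map fun q => q.2 * (dec (codes.getD (t q.1) 0)).getD p 0).sum +
      (c₁ * l₁.getD p 0 + c₂ * l₂.getD p 0)

/-- The certificate that a table is outside the image. -/
def outerOK (n : ℕ) (codes : List ℕ) (t : ℕ) (cs : List (ℕ × ℤ)) (l₁ l₂ : List ℤ) (c₁ c₂ : ℤ)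
    (m : ℤ) (y : List ℤ) : Bool :=
  cs.all (fun q => decide (q.1 < n)) && decide (m ≠ 0) && leechB (vec y) &&
    (List.range 24).all (fun p => (combL codes id cs l₁ l₂ c₁ c₂).getD p 0 == m * y.getD p 0) &&
    let z := combL codes (tget t) cs l₁ l₂ c₁ c₂
    !((List.range 24).all (fun p => z.getD p 0 % m == 0) &&
      leechB (vec (z.map fun x => x / m)))

theorem not_inTab_of_comb (hH : IsPairStab H f₁ f₂) {l₁ l₂ : List ℤ}
    (h₁ : (f₁ : GolayPt → ℤ) = vec l₁) (h₂ : (f₂ : GolayPt → ℤ) = vec l₂)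
    (htree : treeOK F gens root lvls N = true) (hcodes : codesOK n gens root lvls codes = true)
    {ρ : H →* Perm (Fin n)}
    (hρ : ∀ (h : H) (i : Fin n) (v : leechLattice), (v : GolayPt → ℤ) = codeVec codes i.val →
      ((h.1 v : leechLattice) : GolayPt → ℤ) = codeVec codes (ρ h i).val)
    {t : ℕ} {cs : List (ℕ × ℤ)} {c₁ c₂ m : ℤ} {y : List ℤ}
    (hok : outerOK n codes t cs l₁ l₂ c₁ c₂ m y = true)
    {σ : Perm (Fin n)} (hσ : IsTab σ t) : σ ∉ ρ.range := by
  rintro ⟨h, rfl⟩
  obtain ⟨hlen, hnd, hgood⟩ := codes_good htree hcodes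
  simp only [outerOK, Bool.and_eq_true, List.all_eq_true, decide_eq_true_eq, beq_iff_eq,
    List.mem_range, Bool.not_eq_true', Bool.and_eq_false_iff] at hok
  obtain ⟨⟨⟨⟨hcs, hm⟩, hy⟩, hcomb⟩, hbad⟩ := hok
  obtain ⟨hg, hf1, hf2⟩ := (hH.mem_iff h.1).1 h.2
  set g : Co0 := ⟨h.1, hg⟩
  set z := combL codes (tget t) cs l₁ l₂ c₁ c₂
  let yv : leechLattice := ⟨vec y, leechB_iff.mp hy⟩
  -- `vecs` is the combination in the lattice
  have key : ∀ (l : List (ℕ × ℤ)), (∀ q ∈ l, q.1 < n) → ∃ w : leechLattice,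
      (∀ p : GolayPt, (w : GolayPt → ℤ) p =
        (l.map fun q => q.2 * (dec (codes.getD q.1 0)).getD (idx p) 0).sum) ∧
      ∀ p : GolayPt, ((g • w : leechLattice) : GolayPt → ℤ) p =
        (l.map fun q => q.2 * (dec (codes.getD (tget t q.1) 0)).getD (idx p) 0).sum := by
    intro l
    induction l with
    | nil =>
      intro _
      refine ⟨0, fun p => by simp, fun p => ?_⟩
      have : g • (0 : leechLattice) = 0 := map_zero (co0Hom g)
      rw [this]; simp
    | cons q l ih =>
      intro hl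
      obtain ⟨w, hw, hw'⟩ := ih fun x hx => hl x (List.mem_cons_of_mem _ hx)
      have hq := hl q List.mem_cons_self
      let v : leechLattice := ⟨codeVec codes q.1, (hgood _ hq).2.2.mem_right⟩
      have hv := hρ h ⟨q.1, hq⟩ v rfl
      rw [hσ] at hv
      refine ⟨q.2 • v + w, fun p => ?_, fun p => ?_⟩
      · rw [List.map_cons, List.sum_cons, ← hw p, AddSubgroup.coe_add, Pi.add_apply,
          AddSubgroup.coe_zsmul, Pi.smul_apply, smul_eq_mul]
        rfl
      · rw [co0_add, co0_zsmul, List.map_cons, List.sum_cons, ← hw' p, AddSubgroup.coe_add,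
          Pi.add_apply, AddSubgroup.coe_zsmul, Pi.smul_apply, smul_eq_mul]
        show q.2 * ((h.1 v : leechLattice) : GolayPt → ℤ) p + _ = _
        rw [hv]
        rfl
  obtain ⟨w, hw, hw'⟩ := key cs hcs
  have hlhs : w + (c₁ • f₁ + c₂ • f₂) = m • yv := by
    refine Subtype.ext (funext fun p => ?_)
    have := hcomb (idx p) (idx_lt p)
    rw [combL, getD_map_range _ (idx_lt p)] at this
    simp only [AddSubgroup.coe_add, AddSubgroup.coe_zsmul, Pi.add_apply, Pi.smul_apply,
      smul_eq_mul, hw, h₁, h₂]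
    exact this
  have hrhs : ∀ p : GolayPt, m * ((g • yv : leechLattice) : GolayPt → ℤ) p = z.getD (idx p) 0 := by
    intro p
    have e : m • (g • yv) = g • w + (c₁ • f₁ + c₂ • f₂) := by
      rw [← co0_zsmul, ← hlhs, co0_add, co0_add, co0_zsmul, co0_zsmul,
        show g • f₁ = f₁ from hf1, show g • f₂ = f₂ from hf2]
    have := congrFun (congrArg Subtype.val e) p
    simp only [AddSubgroup.coe_add, AddSubgroup.coe_zsmul, Pi.add_apply, Pi.smul_apply,
      smul_eq_mul, hw', h₁, h₂] at this
    rw [this, show z = combL codes (tget t) cs l₁ l₂ c₁ c₂ from rfl, combL,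
      getD_map_range _ (idx_lt p)]
    rfl
  rcases hbad with hdiv | hmem
  · rw [List.all_eq_false] at hdiv
    obtain ⟨p, hp, hne⟩ := hdiv
    rw [List.mem_range] at hp
    refine hne ?_
    have := hrhs (pt p)
    rw [idx_pt hp] at this
    rw [beq_iff_eq, ← this, Int.mul_emod_right]
  · have e : vec (z.map fun x => x / m) = ((g • yv : leechLattice) : GolayPt → ℤ) := by
      funext p
      have hz : z.length = 24 := by simp [z, combL]
      rw [vec, show (z.map fun x => x / m).getD (idx p) 0 = z.getD (idx p) 0 / m by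
        rw [List.getD_eq_getElem _ _ (by simp [hz, idx_lt p]),
          List.getD_eq_getElem _ _ (by simp [hz, idx_lt p]), List.getElem_map], ← hrhs,
        Int.mul_ediv_cancel_left _ hm]
    rw [e, leechB_iff.mpr (g • yv).2] at hmem
    cases hmem

end

end CfsgLib.GraphPerm
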