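import Cfsg.Agent.GraphPerm.RigidDefs
import Cfsg.Agent.SporadicOut.Criterion
import Cfsg.Agent.AutSuzuki.Basic
import Mathlib.GroupTheory.Sylow

/-!
# Two classes of automorphisms, from a rigid generating triple of graph symmetries

`a` has prime order `p` and generates a Sylow subgroup, `b` normalises `⟨a⟩`, `c` normalises `⟨b⟩`
and the three generate `K`; `sg` is a symmetry normalising `K`.  Every automorphism of `K` becomes,
after conjugation by a member of `⟨K, sg⟩`, the identity on the triple.
-/

set_option autoImplicit false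

namespace CfsgLib.GraphPerm

open Equiv (Perm)

/-- Conjugation by a normalising element. -/
def conjNormal {G : Type*} [Group G] {K : Subgroup G} (γ : G)
    (h1 : ∀ x ∈ K, γ * x * γ⁻¹ ∈ K) (h2 : ∀ x ∈ K, γ⁻¹ * x * γ ∈ K) : MulAut K where
  toFun x := ⟨γ * x * γ⁻¹, h1 x x.2⟩
  invFun x := ⟨γ⁻¹ * x * γ, h2 x x.2⟩
  left_inv x := Subtype.ext (by group)
  right_inv x := Subtype.ext (by group)
  map_mul' x y := Subtype.ext (by simp)

variable {D : RData} {H : Type*} [Group H] [Finite H] (ρ : H →* Perm (Fin D.n))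

/-- The symmetry group with two classes of automorphisms. -/
theorem card_out_range (hp : D.p.Prime) (hbase : D.baseOK = true) (hnorm : D.normOK = true)
    (horder : D.orderOK = true) (hsearch : D.searchOK = true) (hrigid : D.rigidOK = true)
    (hH : Nat.card H ≤ D.p * D.N) (hgens : ∀ t ∈ D.gens, InTab ρ.range t)
    {σg : Perm (Fin D.n)} (hσg : IsTab σg D.sg) (hout : σg ∉ ρ.range) :
    Function.Injective ρ ∧ Nat.card ρ.range = D.p * D.N ∧ Nat.card (Cfsg.Out H) = 2 := by
  classical
  haveI : Fact D.p.Prime := ⟨hp⟩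
  simp only [RData.baseOK, Bool.and_eq_true, List.all_eq_true, Bool.not_eq_true',
    decide_eq_true_eq, List.mem_cons, List.not_mem_nil, or_false, forall_eq_or_imp, forall_eq]
    at hbase
  obtain ⟨⟨⟨⟨⟨⟨hAa, hAb, hAc, hAs⟩, hord⟩, hne⟩, hconjA⟩, hconjB⟩, hrel⟩ := hbase
  simp only [RData.normOK, Bool.and_eq_true, List.all_eq_true, List.contains_eq_mem,
    decide_eq_true_eq, List.mem_cons, List.not_mem_nil, or_false, forall_eq_or_imp, forall_eq]
    at hnorm
  obtain ⟨⟨⟨⟨⟨⟨hslp, hslp2⟩, hmsa, hmsb, hmsc, hms2⟩, hsa⟩, hsb⟩, hsc⟩, hs2⟩ := hnorm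
  simp only [RData.orderOK, Bool.and_eq_true, List.all_eq_true, List.contains_eq_mem,
    decide_eq_true_eq, beq_iff_eq] at horder
  obtain ⟨⟨⟨⟨hstrong, hchain⟩, hprod⟩, hNp⟩, hfix⟩ := horder
  simp only [RData.searchOK, Bool.and_eq_true, List.all_eq_true, List.contains_eq_mem,
    decide_eq_true_eq] at hsearch
  obtain ⟨⟨⟨⟨⟨⟨hmem4, hdistA⟩, hdistB⟩, hrepA⟩, hsA⟩, hrepB⟩, hsB⟩ := hsearch
  simp only [RData.rigidOK, Bool.and_eq_true, List.all_eq_true, forBelow_iff, Bool.or_eq_true,
    beq_iff_eq] at hrigid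
  obtain ⟨hone, htwo⟩ := hrigid
  simp only [RData.gens, List.mem_cons, List.not_mem_nil, or_false, forall_eq_or_imp, forall_eq]
    at hgens
  obtain ⟨⟨a, haK, ha⟩, ⟨b, hbK, hb⟩, ⟨c, hcK, hc⟩⟩ := hgens
  set K := ρ.range with hKdef
  -- order and injectivity
  let K3 : Subgroup (Perm (Fin D.n)) := Subgroup.closure {a, b, c}
  have hK3K : K3 ≤ K := by
    rw [Subgroup.closure_le]; rintro _ (rfl | rfl | rfl) <;> assumption
  have hin : ∀ t ∈ D.inner, InTab K3 t := inTab_slp D.steps D.gens (by
    simp only [RData.gens, List.mem_cons, List.not_mem_nil, or_false, forall_eq_or_imp, forall_eq]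
    exact ⟨⟨a, Subgroup.subset_closure (by simp), ha⟩, ⟨b, Subgroup.subset_closure (by simp), hb⟩,
      ⟨c, Subgroup.subset_closure (by simp), hc⟩⟩) hslp
  have hstr : ∀ t ∈ D.strong, InTab K3 t := fun t ht => hin t (hstrong t ht)
  have hlow : D.p * D.N ≤ Nat.card K3 := hprod ▸ chainProd_le_card hstr D.levels hchain
  have hKH : Nat.card K ≤ Nat.card H := Nat.card_le_card_of_surjective ρ.rangeRestrict
    ρ.rangeRestrict_surjective
  have hK3le : Nat.card K3 ≤ Nat.card K :=
    Nat.card_le_card_of_injective _ (Subgroup.inclusion_injective hK3K)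
  have hcardK : Nat.card K = D.p * D.N := by omega
  have hK3eq : K3 = K := Subgroup.eq_of_le_of_card_ge hK3K (by omega)
  have hinj : Function.Injective ρ := by
    have hbij := (Nat.bijective_iff_surjective_and_card ρ.rangeRestrict).2
      ⟨ρ.rangeRestrict_surjective, show Nat.card H = Nat.card K by omega⟩
    exact fun x y e => hbij.injective (Subtype.ext e)
  refine ⟨hinj, hcardK, ?_⟩
  rw [CfsgLib.AutSuzuki.card_out_congr (MonoidHom.ofInjective hinj)]
  -- the triple in `K`
  let aK : K := ⟨a, haK⟩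
  let bK : K := ⟨b, hbK⟩
  let cK : K := ⟨c, hcK⟩
  have hgen : Subgroup.closure (Set.range (three aK bK cK)) = ⊤ := by
    refine Subgroup.map_injective K.subtype_injective ?_
    rw [MonoidHom.map_closure, ← MonoidHom.range_eq_map, Subgroup.range_subtype]
    refine (congrArg Subgroup.closure ?_).trans hK3eq
    rw [← Set.range_comp]
    ext u
    constructor
    · rintro ⟨i, rfl⟩
      rcases i with _ | _ | i
      · exact Or.inl rfl
      · exact Or.inr (Or.inl rfl)
      · exact Or.inr (Or.inr rfl)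
    · rintro (rfl | rfl | rfl)
      exacts [⟨0, rfl⟩, ⟨1, rfl⟩, ⟨2, rfl⟩]
  -- `sg` normalises `K` and squares into it
  have hconjgen : ∀ {x : Perm (Fin D.n)} {X Y : ℕ}, IsTab x X → Y ∈ D.inner →
      wordConj D.n [X, Y] D.sg [0] [1] = true → σg * x * σg⁻¹ ∈ K := by
    intro x X Y hx hY hc
    obtain ⟨y, hy, ry⟩ := hin Y hY
    have ht : HasTabs [X, Y] (fun i => [x, y].getD i 1) := by
      intro i hi
      simp only [List.length_cons, List.length_nil] at hi
      rcases i with _ | _ | i
      exacts [hx, ry, by omega]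
    have := wordConj_sound ht hσg (by simp) (by simp) hc
    simp only [wval_cons, wval_nil, mul_one] at this
    exact this ▸ hK3K hy
  have hconjK : ∀ x ∈ K, σg * x * σg⁻¹ ∈ K := by
    have : K3 ≤ K.comap (MulAut.conj σg).toMonoidHom := by
      rw [Subgroup.closure_le]
      rintro _ (rfl | rfl | rfl)
      exacts [hconjgen ha hmsa hsa, hconjgen hb hmsb hsb, hconjgen hc hmsc hsc]
    intro x hx
    exact this (hK3eq ▸ hx)
  have hsq : σg * σg ∈ K := by
    obtain ⟨y, hy, ry⟩ := hin D.s2 hms2
    have ht : HasTabs [D.sg, D.s2] (fun i => [σg, y].getD i 1) := by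
      intro i hi
      simp only [List.length_cons, List.length_nil] at hi
      rcases i with _ | _ | i
      exacts [hσg, ry, by omega]
    have := (wordEq_iff ht (by simp) (by simp)).1 hs2
    simp only [wval_cons, wval_nil, mul_one] at this
    exact this ▸ hK3K hy
  have hconjK' : ∀ x ∈ K, σg⁻¹ * x * σg ∈ K := fun x hx => by
    have h1 : σg⁻¹ * x * σg = (σg * σg)⁻¹ * (σg * x * σg⁻¹) * (σg * σg) := by group
    rw [h1]
    exact mul_mem (mul_mem (inv_mem hsq) (hconjK x hx)) hsq
  -- the group `⟨K, sg⟩`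
  let K' : Subgroup (Perm (Fin D.n)) :=
    { carrier := {γ | γ ∈ K ∨ γ * σg⁻¹ ∈ K}
      one_mem' := Or.inl (one_mem K)
      mul_mem' := fun {x y} hx hy => by
        rcases hx with hx | hx <;> rcases hy with hy | hy
        · exact Or.inl (mul_mem hx hy)
        · exact Or.inr (by rw [mul_assoc]; exact mul_mem hx hy)
        · refine Or.inr ?_
          rw [show x * y * σg⁻¹ = (x * σg⁻¹) * (σg * y * σg⁻¹) by group]
          exact mul_mem hx (hconjK y hy)
        · refine Or.inl ?_
          rw [show x * y = (x * σg⁻¹) * (σg * (y * σg⁻¹) * σg⁻¹) * (σg * σg) by group]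
          exact mul_mem (mul_mem hx (hconjK _ hy)) hsq
      inv_mem' := fun {x} hx => by
        rcases hx with hx | hx
        · exact Or.inl (inv_mem hx)
        · refine Or.inr ?_
          rw [show x⁻¹ * σg⁻¹ = (σg⁻¹ * (x * σg⁻¹)⁻¹ * σg) * (σg * σg)⁻¹ by group]
          exact mul_mem (hconjK' _ (inv_mem hx)) (inv_mem hsq) }
  have hsK' : σg ∈ K' := Or.inr (by rw [mul_inv_cancel]; exact one_mem K)
  have hnormK' : ∀ γ ∈ K', ∀ x ∈ K, γ * x * γ⁻¹ ∈ K := by
    rintro γ (hγ | hγ) x hx
    · exact mul_mem (mul_mem hγ hx) (inv_mem hγ)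
    · rw [show γ * x * γ⁻¹ = (γ * σg⁻¹) * (σg * x * σg⁻¹) * (γ * σg⁻¹)⁻¹ by group]
      exact mul_mem (mul_mem hγ (hconjK x hx)) (inv_mem hγ)
  have hautK' : K' ≤ autR D.n D.R := by
    have hKA : K ≤ autR D.n D.R := by
      rw [← hK3eq, Subgroup.closure_le]
      rintro _ (rfl | rfl | rfl)
      exacts [mem_autR_of_isAut ha hAa, mem_autR_of_isAut hb hAb, mem_autR_of_isAut hc hAc]
    rintro γ (hγ | hγ)
    · exact hKA hγ
    · have := mul_mem (hKA hγ) (mem_autR_of_isAut hσg hAs)
      rwa [inv_mul_cancel_right] at this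
  have h4 : ∀ t ∈ D.all4, InTab K' t := inTab_slp D.steps2 _ (by
    simp only [List.mem_cons, List.not_mem_nil, or_false, forall_eq_or_imp, forall_eq]
    exact ⟨⟨a, Or.inl haK, ha⟩, ⟨b, Or.inl hbK, hb⟩, ⟨c, Or.inl hcK, hc⟩, ⟨σg, hsK', hσg⟩⟩) hslp2
  have hGS : ∀ t ∈ D.GS, InTab K' t := fun t ht =>
    h4 t (hmem4 t (List.mem_append_left _ (List.mem_append_left _ ht)))
  have hLA : ∀ t ∈ D.LA, InTab (autR D.n D.R) t := fun t ht =>
    (h4 t (hmem4 t (List.mem_append_left _ (List.mem_append_right _ ht)))).mono hautK'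
  have hLB : ∀ t ∈ D.LB, InTab (autR D.n D.R) t := fun t ht =>
    (h4 t (hmem4 t (List.mem_append_right _ ht))).mono hautK'
  -- relations among the generators
  have hx : HasTabs D.gens (three a b c) := by
    intro i hi
    simp only [RData.gens, List.length_cons, List.length_nil] at hi
    rcases i with _ | _ | _ | i
    exacts [ha, hb, hc, by omega]
  have hl3 : D.gens.length = 3 := rfl
  have h0 : ∀ k : ℕ, ∀ i ∈ List.replicate k 0, i < D.gens.length := fun k i hi => by
    rw [List.eq_of_mem_replicate hi]; simp [hl3]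
  have h1 : ∀ k : ℕ, ∀ i ∈ List.replicate k 1, i < D.gens.length := fun k i hi => by
    rw [List.eq_of_mem_replicate hi]; simp [hl3]
  have hap : a ^ D.p = 1 := by
    have := (wordEq_iff hx (h0 D.p) (by simp)).1 hord
    rwa [wval_replicate, wval_nil] at this
  have ha1 : a ≠ 1 := by
    intro h
    rw [(wordEq_iff hx (by simp [hl3]) (by simp)).2 (by simp [wval_cons, three, h])] at hne
    simp at hne
  have hba : b * a = a ^ D.r * b := by
    have := (wordEq_iff hx (by simp [hl3]) (fun i hi => (List.mem_append.1 hi).elim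
      (h0 D.r i) (fun h => by simp at h; simp [h, hl3]))).1 hconjA
    simpa [wval_append, wval_cons, wval_replicate, three] using this
  have hcb : c * b = b ^ D.s * c := by
    have := (wordEq_iff hx (by simp [hl3]) (fun i hi => (List.mem_append.1 hi).elim
      (h1 D.s i) (fun h => by simp at h; simp [h, hl3]))).1 hconjB
    simpa [wval_append, wval_cons, wval_replicate, three] using this
  have hao : orderOf aK = D.p := by
    rw [← Subgroup.orderOf_coe]
    exact orderOf_eq_prime hap ha1
  have hrelK : ∀ l ∈ D.rels, wval (three aK bK cK) l.1 = wval (three aK bK cK) l.2 := by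
    intro l hl
    obtain ⟨hl2, hle⟩ := hrel l hl
    have e := (wordEq_iff hx (fun i hi => hl2 i (List.mem_append_left _ hi))
      (fun i hi => hl2 i (List.mem_append_right _ hi))).1 hle
    have hcoe : (fun i => K.subtype (three aK bK cK i)) = three a b c := by
      funext i; rcases i with _ | _ | i <;> rfl
    refine K.subtype_injective ?_
    rw [map_wval, map_wval, hcoe, e]
  -- the normal form
  have normal_form : ∀ φ : MulAut K, ∃ γ ∈ K', ∀ i,
      γ * (φ (three aK bK cK i) : Perm (Fin D.n)) * γ⁻¹ = three aK bK cK i := by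
    intro φ
    have hcardz : ∀ u : K, orderOf u = D.p →
        Nat.card (Subgroup.zpowers u) = D.p ^ (Nat.card K).factorization D.p := by
      intro u hu
      have hNp' : ¬ D.p ∣ D.N := fun h => hNp (Nat.mod_eq_zero_of_dvd h)
      rw [Nat.card_zpowers, hu, hcardK, Nat.factorization_mul hp.ne_zero
        (fun h => hNp' (by rw [h]; exact dvd_zero _)), Finsupp.add_apply, hp.factorization_self,
        Nat.factorization_eq_zero_of_not_dvd hNp', Nat.add_zero, pow_one]
    have hφo : orderOf (φ aK) = D.p := by rw [MulEquiv.orderOf_eq, hao]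
    let P1 : Sylow D.p K := Sylow.ofCard _ (hcardz _ hφo)
    let P2 : Sylow D.p K := Sylow.ofCard _ (hcardz _ hao)
    obtain ⟨g1, hg1⟩ := MulAction.exists_smul_eq K P1 P2
    have hmem : g1 * φ aK * g1⁻¹ ∈ Subgroup.zpowers aK := by
      have h2 : g1 * φ aK * g1⁻¹ ∈ (↑(g1 • P1) : Subgroup K) := by
        rw [Sylow.coe_subgroup_smul]
        exact Subgroup.smul_mem_pointwise_smul (φ aK) (MulAut.conj g1) _ (Subgroup.mem_zpowers _)
      rw [hg1] at h2
      exact h2
    obtain ⟨k, hk, hka⟩ : ∃ k < D.p, aK ^ k = g1 * φ aK * g1⁻¹ := by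
      obtain ⟨k, hk, he⟩ := Finset.mem_image.1 (mem_zpowers_iff_mem_range_orderOf.1 hmem)
      exact ⟨k, by simpa [hao] using hk, he⟩
    let ψ : MulAut K := MulAut.conj g1 * φ
    have hψa : ψ aK = aK ^ k := hka.symm
    have hk0 : k ≠ 0 := by
      rintro rfl
      rw [pow_zero] at hψa
      have h := ψ.injective (hψa.trans (map_one ψ).symm)
      exact ha1 (congrArg Subtype.val h)
    obtain ⟨k', hk'⟩ : ∃ k', aK ^ (k * k') = aK := by
      have hcop : k.Coprime (orderOf aK) := by
        rw [hao]
        exact (hp.coprime_iff_not_dvd.2 fun h => hk0 (Nat.eq_zero_of_dvd_of_lt h hk)).symm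
      obtain ⟨m, hm⟩ := exists_pow_eq_self_of_coprime hcop
      exact ⟨m, by rw [pow_mul]; exact hm⟩
    have hbaK : bK * aK = aK ^ D.r * bK := Subtype.ext (by simpa using hba)
    have hcbK : cK * bK = bK ^ D.s * cK := Subtype.ext (by simpa using hcb)
    have hya : (ψ bK : Perm (Fin D.n)) * a = a ^ D.r * (ψ bK : Perm (Fin D.n)) := by
      have e := congrArg ψ hbaK
      rw [map_mul, map_mul, map_pow, hψa] at e
      have e' : SemiconjBy (ψ bK) (aK ^ k) ((aK ^ k) ^ D.r) := e
      have e2 := SemiconjBy.pow_right e' k'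
      rw [← pow_mul, ← pow_mul, ← pow_mul] at e2
      rw [hk', show k * (D.r * k') = k * k' * D.r by ring, pow_mul, hk'] at e2
      simpa [aK] using congrArg Subtype.val (e2 : ψ bK * aK = aK ^ D.r * ψ bK)
    obtain ⟨ty, hty, hyR⟩ := searchT_sound ha hya (hautK' (Or.inl (ψ bK).2)) hdistA hLA D.levA []
      [] (by simp [Agrees]) rfl hrepA hsA
    -- normalising `(a ^ k, ψ b)`
    obtain ⟨k0, hk0m, g2, hg2, hg2a, hg2b⟩ : ∃ k0 ∈ D.K0, ∃ g2 ∈ K',
        g2 * (ψ aK : Perm (Fin D.n)) * g2⁻¹ = a ^ k0 ∧ g2 * (ψ bK : Perm (Fin D.n)) * g2⁻¹ = b := by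
      have hs := (hone k hk).resolve_left hk0 ty hty
      simp only [RData.stepOne, Bool.or_eq_true, List.any_eq_true, Bool.and_eq_true] at hs
      rcases hs with hbr | ⟨g, hg, k0, hk0, hA, hB⟩
      · exfalso
        simp only [RData.breaks, Bool.not_true, Bool.false_or, List.any_eq_true, Bool.and_eq_true,
          List.all_eq_true, decide_eq_true_eq, Bool.not_eq_true'] at hbr
        obtain ⟨l, hl, hl2, hbad⟩ := hbr
        have hx' : HasTabs [D.a, ty, D.c] (three a (ψ bK : Perm (Fin D.n)) c) := by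
          intro i hi
          simp only [List.length_cons, List.length_nil] at hi
          rcases i with _ | _ | _ | i
          exacts [ha, hyR, hc, by omega]
        have hlt : ∀ w, (∀ i ∈ w, i ∈ l.1 ++ l.2) →
            wval (three a (ψ bK : Perm (Fin D.n)) c) (powZero k w) =
              (ψ (wval (three aK bK cK) w) : Perm (Fin D.n)) := by
          intro w hw
          rw [wval_powZero]
          show _ = (K.subtype.comp ψ.toMonoidHom) (wval (three aK bK cK) w)
          rw [map_wval]
          unfold wval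
          refine congrArg List.prod (List.map_congr_left fun i hi => ?_)
          have := hl2 i (hw i hi)
          rcases i with _ | _ | i
          · simp [three, hψa, aK]
          · rfl
          · omega
        have hu : ∀ i ∈ l.1, i < [D.a, ty, D.c].length := fun i hi =>
          (hl2 i (List.mem_append_left _ hi)).trans (by simp)
        have hv : ∀ i ∈ l.2, i < [D.a, ty, D.c].length := fun i hi =>
          (hl2 i (List.mem_append_right _ hi)).trans (by simp)
        have e : wval (three a (ψ bK : Perm (Fin D.n)) c) (powZero k l.1) =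
            wval (three a (ψ bK : Perm (Fin D.n)) c) (powZero k l.2) := by
          rw [hlt _ (fun i hi => List.mem_append_left _ hi),
            hlt _ (fun i hi => List.mem_append_right _ hi), hrelK l hl]
        rw [(wordEq_iff hx' (mem_powZero (by simp) hu) (mem_powZero (by simp) hv)).2 e] at hbad
        simp at hbad
      · obtain ⟨γ, hγ, rγ⟩ := hGS g hg
        have hx' : HasTabs [D.a, ty, D.b] (three a (ψ bK : Perm (Fin D.n)) b) := by
          intro i hi
          simp only [List.length_cons, List.length_nil] at hi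
          rcases i with _ | _ | _ | i
          exacts [ha, hyR, hb, by omega]
        have h3 : ∀ m : ℕ, ∀ i ∈ List.replicate m 0, i < [D.a, ty, D.b].length := fun m i hi => by
          rw [List.eq_of_mem_replicate hi]; simp
        have e1 := wordConj_sound hx' rγ (h3 k) (h3 k0) hA
        have e2 := wordConj_sound hx' rγ (by simp) (by simp) hB
        refine ⟨k0, hk0, γ, hγ, ?_, ?_⟩
        · simpa [wval_replicate, three, hψa, aK] using e1
        · simpa [wval_cons, three] using e2
    let χ : MulAut K :=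
      (conjNormal g2 (hnormK' g2 hg2) (fun x hx => by
        simpa using hnormK' g2⁻¹ (inv_mem hg2) x hx)) * ψ
    have hχ : ∀ u, (χ u : Perm (Fin D.n)) = g2 * (ψ u : Perm (Fin D.n)) * g2⁻¹ := fun u => rfl
    have hχa : χ aK = aK ^ k0 := Subtype.ext ((hχ aK).trans (by simpa [aK] using hg2a))
    have hχb : χ bK = bK := Subtype.ext ((hχ bK).trans hg2b)
    have hzb : (χ cK : Perm (Fin D.n)) * b = b ^ D.s * (χ cK : Perm (Fin D.n)) := by
      have e := congrArg χ hcbK
      rw [map_mul, map_mul, map_pow, hχb] at e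
      simpa [bK] using congrArg Subtype.val e
    obtain ⟨tz, htz, hzR⟩ := searchT_sound hb hzb (hautK' (Or.inl (χ cK).2)) hdistB hLB D.levB []
      [] (by simp [Agrees]) rfl hrepB hsB
    have hs := htwo k0 hk0m tz htz
    simp only [RData.stepTwo, Bool.or_eq_true, List.any_eq_true, Bool.and_eq_true] at hs
    rcases hs with hbr | ⟨g, hg, ⟨hA, hB⟩, hC⟩
    · exfalso
      simp only [RData.breaks, Bool.not_false, Bool.true_or, Bool.true_and, List.any_eq_true,
        Bool.not_eq_true'] at hbr
      obtain ⟨l, hl, hbad⟩ := hbr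
      have hx' : HasTabs [D.a, D.b, tz] (three a b (χ cK : Perm (Fin D.n))) := by
        intro i hi
        simp only [List.length_cons, List.length_nil] at hi
        rcases i with _ | _ | _ | i
        exacts [ha, hb, hzR, by omega]
      have hlt : ∀ w, wval (three a b (χ cK : Perm (Fin D.n))) (powZero k0 w) =
          (χ (wval (three aK bK cK) w) : Perm (Fin D.n)) := by
        intro w
        rw [wval_powZero]
        show _ = (K.subtype.comp χ.toMonoidHom) (wval (three aK bK cK) w)
        rw [map_wval]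
        unfold wval
        refine congrArg List.prod (List.map_congr_left fun i _ => ?_)
        rcases i with _ | _ | i
        · simp [three, hχa, aK]
        · simp [three, hχb, bK]
        · rfl
      have hu : ∀ i ∈ l.1, i < [D.a, D.b, tz].length := fun i hi =>
        (hrel l hl).1 i (List.mem_append_left _ hi)
      have hv : ∀ i ∈ l.2, i < [D.a, D.b, tz].length := fun i hi =>
        (hrel l hl).1 i (List.mem_append_right _ hi)
      have e : wval (three a b (χ cK : Perm (Fin D.n))) (powZero k0 l.1) =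
          wval (three a b (χ cK : Perm (Fin D.n))) (powZero k0 l.2) := by
        rw [hlt, hlt, hrelK l hl]
      rw [(wordEq_iff hx' (mem_powZero (by simp) hu) (mem_powZero (by simp) hv)).2 e] at hbad
      simp at hbad
    · obtain ⟨γ, hγ, rγ⟩ := hGS g hg
      have hx' : HasTabs [D.a, D.b, tz, D.c] (fun i => [a, b, (χ cK : Perm (Fin D.n)), c].getD i 1) := by
        intro i hi
        simp only [List.length_cons, List.length_nil] at hi
        rcases i with _ | _ | _ | _ | i
        exacts [ha, hb, hzR, hc, by omega]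
      refine ⟨γ * (g2 * g1), mul_mem hγ (mul_mem hg2 (Or.inl g1.2)), fun i => ?_⟩
      have hfin : ∀ u : K, (γ * (g2 * g1)) * (φ u : Perm (Fin D.n)) * (γ * (g2 * g1))⁻¹ =
          γ * (χ u : Perm (Fin D.n)) * γ⁻¹ := by
        intro u
        rw [hχ]
        show _ = γ * (g2 * ((g1 : Perm (Fin D.n)) * (φ u : Perm (Fin D.n)) * (g1 : Perm (Fin D.n))⁻¹) * g2⁻¹) * γ⁻¹
        group
      rw [hfin]
      rcases i with _ | _ | i
      · have := wordConj_sound hx' rγ (fun j hj => by rw [List.eq_of_mem_replicate hj]; simp)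
          (by simp) hA
        simpa [wval_replicate, wval_cons, three, hχa, aK] using this
      · have := wordConj_sound hx' rγ (by simp) (by simp) hB
        simpa [wval_cons, three, hχb, bK] using this
      · have := wordConj_sound hx' rγ (by simp) (by simp) hC
        simpa [wval_cons, three, cK] using this
  -- trivial centraliser
  have hcent : ∀ z : Perm (Fin D.n), (∀ x ∈ K, z * x = x * z) → z = 1 := by
    intro z hz
    rcases hl : D.levels with _ | ⟨⟨b0, g0, tree⟩, _ | ⟨⟨b1, gens1, tree1⟩, rest⟩⟩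
    · rw [hl] at hfix; simp at hfix
    · rw [hl] at hfix; simp at hfix
    · rw [hl] at hfix hchain
      simp only [Bool.and_eq_true, beq_iff_eq, forBelow_iff, Bool.or_eq_true, List.any_eq_true,
        bne_iff_ne] at hfix
      obtain ⟨hlen, hmove⟩ := hfix
      simp only [chainLower, Bool.and_eq_true, decide_eq_true_eq, List.all_eq_true,
        List.contains_eq_mem, beq_iff_eq] at hchain
      obtain ⟨⟨⟨⟨hb0, hg0⟩, htree⟩, hnd⟩, ⟨⟨⟨⟨-, hg1'⟩, -⟩, -⟩, -⟩⟩ := hchain
      have hz0 : z ⟨b0, hb0⟩ = ⟨b0, hb0⟩ := by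
        by_contra hne0
        obtain ⟨g, hg, hgv⟩ := (hmove (z ⟨b0, hb0⟩).val (z ⟨b0, hb0⟩).isLt).resolve_left
          fun e => hne0 (Fin.ext e)
        obtain ⟨hgs, hgfix⟩ := hg1' g hg
        obtain ⟨τ, hτ, rτ⟩ := hstr g hgs
        have e := DFunLike.congr_fun (hz τ (hK3K hτ)) (⟨b0, hb0⟩ : Fin D.n)
        have hτ0 : τ ⟨b0, hb0⟩ = ⟨b0, hb0⟩ := Fin.ext ((rτ _).trans (hgfix b0 (by simp)))
        rw [Equiv.Perm.mul_apply, Equiv.Perm.mul_apply, hτ0] at e
        exact hgv ((rτ _).symm.trans (congrArg Fin.val e).symm)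
      refine Equiv.ext fun v => ?_
      have hsub := treeOrb_subset (S := K) (fun t ht => (hstr t (hg0 t ht).1).mono hK3K)
        (⟨b0, hb0⟩ : Fin D.n) tree [b0] (fun p hp =>
          ⟨_, MulAction.mem_orbit_self _, (List.mem_singleton.1 hp).symm⟩) htree
      have hv : v.val ∈ b0 :: tree.map fun e => e.1 := by
        have hcard := List.toFinset_card_of_nodup (nodup_of_noDup hnd)
        rw [List.length_cons, List.length_map, hlen] at hcard
        have hall : (b0 :: tree.map fun e => e.1).toFinset = Finset.range D.n := by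
          refine Finset.eq_of_subset_of_card_le (fun p hp => ?_) (by rw [hcard, Finset.card_range])
          obtain ⟨x, -, ex⟩ := hsub p (by simpa using hp)
          exact Finset.mem_range.2 (ex ▸ x.isLt)
        exact List.mem_toFinset.1 (hall ▸ Finset.mem_range.2 v.isLt)
      obtain ⟨x, ⟨τ, hτ⟩, ex⟩ := hsub v.val (by simpa using hv)
      have hxv : x = v := Fin.ext ex
      have e := DFunLike.congr_fun (hz τ.1 τ.2) (⟨b0, hb0⟩ : Fin D.n)
      rw [Equiv.Perm.mul_apply, Equiv.Perm.mul_apply, hz0] at e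
      have hτv : τ.1 ⟨b0, hb0⟩ = v := hτ.trans hxv
      rwa [hτv] at e
  -- two classes
  have hco : ∀ i, ((three aK bK cK i : K) : Perm (Fin D.n)) = three a b c i := by
    intro i; rcases i with _ | _ | i <;> rfl
  let π : MulAut K := conjNormal σg⁻¹ (by simpa using hconjK') (by simpa using hconjK)
  refine CfsgLib.SporadicOut.card_out_eq_two (three aK bK cK) hgen π (fun φ => ?_) fun g => ?_
  · obtain ⟨γ, hγ, e⟩ := normal_form φ
    rcases hγ with hγ | hγ
    · exact ⟨⟨γ, hγ⟩, Or.inl fun i => Subtype.ext (e i)⟩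
    · refine ⟨⟨σg⁻¹ * (γ * σg⁻¹) * σg, hconjK' _ hγ⟩, Or.inr fun i => Subtype.ext ?_⟩
      show σg⁻¹ * (γ * σg⁻¹) * σg * (φ (three aK bK cK i) : Perm (Fin D.n)) *
        (σg⁻¹ * (γ * σg⁻¹) * σg)⁻¹ =
          σg⁻¹ * Subtype.val (three aK bK cK i) * σg⁻¹⁻¹
      rw [← e i]
      group
  · by_contra hall
    simp only [ne_eq, not_exists, not_not] at hall
    apply hout
    have hz : ∀ x ∈ K, σg * g * x = x * (σg * g) := by
      have hcl : K3 ≤ Subgroup.centralizer {σg * (g : Perm (Fin D.n))} := by
        rw [Subgroup.closure_le]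
        have key : ∀ i, (three aK bK cK i : Perm (Fin D.n)) ∈
            Subgroup.centralizer {σg * (g : Perm (Fin D.n))} := by
          intro i
          rw [Subgroup.mem_centralizer_singleton_iff]
          have := congrArg Subtype.val (hall i)
          change (g : Perm (Fin D.n)) * ((three aK bK cK i : K) : Perm (Fin D.n)) *
            (g : Perm (Fin D.n))⁻¹ =
            σg⁻¹ * ((three aK bK cK i : K) : Perm (Fin D.n)) * σg⁻¹⁻¹ at this
          rw [mul_inv_eq_iff_eq_mul, hco] at this
          show three a b c i * (σg * g) = σg * g * three a b c i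
          calc (three aK bK cK i : Perm (Fin D.n)) * (σg * g) =
              σg * (σg⁻¹ * (three aK bK cK i : Perm (Fin D.n)) * σg⁻¹⁻¹ * g) := by group
            _ = σg * g * _ := by rw [← this, mul_assoc]
        rintro _ (rfl | rfl | rfl)
        exacts [key 0, key 1, key 2]
      intro x hx
      exact (Subgroup.mem_centralizer_singleton_iff.1 (hcl (hK3eq ▸ hx))).symm
    have h1 := hcent _ hz
    rw [mul_eq_one_iff_eq_inv] at h1
    exact h1 ▸ inv_mem g.2

end CfsgLib.GraphPerm
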