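import Cfsg.Agent.GraphPerm.HSRigidChecks
import Cfsg.Agent.GraphPerm.HSSearchChecks
import Cfsg.Agent.GraphPerm.Rigid
import Cfsg.Agent.GraphPerm.LeechModel

/-!
# The kernel checks for the HS data
-/

set_option autoImplicit false
set_option maxRecDepth 100000
set_option Elab.async false

namespace CfsgLib.GraphPerm.HSModel

open CfsgLib.Leech CfsgLib.Leech.TreeData

/-- The move sequences used. -/
def moves : List (List Mv) := hsGens ++ m22aGens ++ m22bGens

theorem codes_ok : codesOK 100 hsGens hsRoot hsLvls codes = true := by decide +kernel

theorem moves_part0 : (((moves.zip moveTabs).drop 0).take 4).all (fun q => moveTabOK 100 hsFix codes q.1 q.2) = true := by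
  decide +kernel
theorem moves_part4 : (((moves.zip moveTabs).drop 4).take 4).all (fun q => moveTabOK 100 hsFix codes q.1 q.2) = true := by
  decide +kernel
theorem moves_part8 : (((moves.zip moveTabs).drop 8).take 4).all (fun q => moveTabOK 100 hsFix codes q.1 q.2) = true := by
  decide +kernel
theorem moves_part12 : (((moves.zip moveTabs).drop 12).take 4).all (fun q => moveTabOK 100 hsFix codes q.1 q.2) = true := by
  decide +kernel

theorem moves_ok : (moves.zip moveTabs).all (fun q => moveTabOK 100 hsFix codes q.1 q.2) = true ∧ moveTabs.length = moves.length := by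
  refine ⟨?_, by decide +kernel⟩
  have h : moves.zip moveTabs = ((moves.zip moveTabs).drop 0).take 4 ++ ((moves.zip moveTabs).drop 4).take 4 ++ ((moves.zip moveTabs).drop 8).take 4 ++ ((moves.zip moveTabs).drop 12).take 4 := by
    rfl
  rw [h]
  simp only [List.all_append, moves_part0, moves_part4, moves_part8, moves_part12, Bool.and_self]

theorem steps3_ok : slpOK 100 moveTabs steps3 = true ∧
    [data.a, data.b, data.c].all (slpTabs moveTabs steps3).contains = true := by
  decide +kernel

theorem outer_ok :
    outerOK 100 codes data.sg outerComb (hsFix[0]) (hsFix[1]) outerC1 outerC2 outerM outerY = true := by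
  decide +kernel

theorem sg_ok : permOK 100 data.sg = true := by decide +kernel

theorem fix_pair : [hsFix[0], hsFix[1]] = hsFix := by decide +kernel

end CfsgLib.GraphPerm.HSModel
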