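import Cfsg.Agent.GraphPerm.HSData

/-!
# The kernel checks for the HS data: generators and normalisation

The checks come in pieces which are elaborated one after the other, and the file has few imports:
this keeps the memory low.
-/

set_option autoImplicit false
set_option maxRecDepth 100000
set_option Elab.async false

namespace CfsgLib.GraphPerm.HSModel

theorem isAut_a_low : isAutPart 100 data.R data.a 0 50 = true := by decide +kernel
theorem isAut_a_high : isAutPart 100 data.R data.a 50 50 = true := by decide +kernel
theorem isAut_a : isAut 100 data.R data.a = true :=
  isAut_of_part (forRange_add (a := 50) (b := 50) isAut_a_low isAut_a_high)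
theorem isAut_b_low : isAutPart 100 data.R data.b 0 50 = true := by decide +kernel
theorem isAut_b_high : isAutPart 100 data.R data.b 50 50 = true := by decide +kernel
theorem isAut_b : isAut 100 data.R data.b = true :=
  isAut_of_part (forRange_add (a := 50) (b := 50) isAut_b_low isAut_b_high)
theorem isAut_c_low : isAutPart 100 data.R data.c 0 50 = true := by decide +kernel
theorem isAut_c_high : isAutPart 100 data.R data.c 50 50 = true := by decide +kernel
theorem isAut_c : isAut 100 data.R data.c = true :=
  isAut_of_part (forRange_add (a := 50) (b := 50) isAut_c_low isAut_c_high)
theorem isAut_sg_low : isAutPart 100 data.R data.sg 0 50 = true := by decide +kernel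
theorem isAut_sg_high : isAutPart 100 data.R data.sg 50 50 = true := by decide +kernel
theorem isAut_sg : isAut 100 data.R data.sg = true :=
  isAut_of_part (forRange_add (a := 50) (b := 50) isAut_sg_low isAut_sg_high)
theorem baseSide_ok : data.baseSide = true := by decide +kernel

theorem baseOK : data.baseOK = true := RData.baseOK_of isAut_a isAut_b isAut_c isAut_sg baseSide_ok

theorem normSlp_ok : slpOK 100 data.gens data.steps = true := by decide +kernel
theorem normSlpTwo_ok : slpOK 100 [data.a, data.b, data.c, data.sg] data.steps2 = true := by decide +kernel
theorem normSide_ok : data.normSide = true := by decide +kernel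

theorem normOK : data.normOK = true := RData.normOK_of normSlp_ok normSlpTwo_ok normSide_ok

theorem orderOK : data.orderOK = true := by decide +kernel

theorem stepOne_0 : forRange 0 4 data.stepOneAt = true := by decide +kernel
theorem stepOne_1 : forRange 4 3 data.stepOneAt = true := by decide +kernel
theorem stepOne_2 : forRange 7 4 data.stepOneAt = true := by decide +kernel
theorem stepTwo_1 : (data.LB.all fun z => data.stepTwo 1 z) = true := by decide +kernel

theorem rigidOK : data.rigidOK = true := by
  refine RData.rigidOK_of (forRange_add (a := 7) (b := 4) (forRange_add (a := 4) (b := 3) stepOne_0 stepOne_1) stepOne_2) fun k hk => ?_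
  rw [show data.K0 = [1] from rfl, List.mem_singleton] at hk
  subst hk
  exact stepTwo_1

end CfsgLib.GraphPerm.HSModel
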