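import Cfsg.Agent.GraphPerm.McLData

/-!
# The kernel checks for the McL data: generators

The checks come in pieces which are elaborated one after the other, and the file has few imports:
this keeps the memory low.
-/

set_option autoImplicit false
set_option maxRecDepth 100000
set_option Elab.async false

namespace CfsgLib.GraphPerm.McLModel

theorem isAut_a_low : isAutPart 275 data.R data.a 0 137 = true := by decide +kernel
theorem isAut_a_high : isAutPart 275 data.R data.a 137 138 = true := by decide +kernel
theorem isAut_a : isAut 275 data.R data.a = true :=
  isAut_of_part (forRange_add (a := 137) (b := 138) isAut_a_low isAut_a_high)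
theorem isAut_b_low : isAutPart 275 data.R data.b 0 137 = true := by decide +kernel
theorem isAut_b_high : isAutPart 275 data.R data.b 137 138 = true := by decide +kernel
theorem isAut_b : isAut 275 data.R data.b = true :=
  isAut_of_part (forRange_add (a := 137) (b := 138) isAut_b_low isAut_b_high)
theorem isAut_c_low : isAutPart 275 data.R data.c 0 137 = true := by decide +kernel
theorem isAut_c_high : isAutPart 275 data.R data.c 137 138 = true := by decide +kernel
theorem isAut_c : isAut 275 data.R data.c = true :=
  isAut_of_part (forRange_add (a := 137) (b := 138) isAut_c_low isAut_c_high)
theorem isAut_sg_low : isAutPart 275 data.R data.sg 0 137 = true := by decide +kernel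
theorem isAut_sg_high : isAutPart 275 data.R data.sg 137 138 = true := by decide +kernel
theorem isAut_sg : isAut 275 data.R data.sg = true :=
  isAut_of_part (forRange_add (a := 137) (b := 138) isAut_sg_low isAut_sg_high)
theorem baseSide_ok : data.baseSide = true := by decide +kernel

theorem baseOK : data.baseOK = true := RData.baseOK_of isAut_a isAut_b isAut_c isAut_sg baseSide_ok

theorem normSlp_ok : slpOK 275 data.gens data.steps = true := by decide +kernel
theorem normSlpTwo_low :
    slpOK 275 [data.a, data.b, data.c, data.sg] (data.steps2.take (data.steps2.length / 2)) = true := by
  decide +kernel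
theorem normSlpTwo_high :
    slpOK 275 (slpTabs [data.a, data.b, data.c, data.sg] (data.steps2.take (data.steps2.length / 2)))
      (data.steps2.drop (data.steps2.length / 2)) = true := by
  decide +kernel
theorem normSlpTwo_ok : slpOK 275 [data.a, data.b, data.c, data.sg] data.steps2 = true :=
  slpOK_of_halves normSlpTwo_low normSlpTwo_high
theorem normSide_ok : data.normSide = true := by decide +kernel

theorem normOK : data.normOK = true := RData.normOK_of normSlp_ok normSlpTwo_ok normSide_ok

theorem orderOK : data.orderOK = true := by decide +kernel

end CfsgLib.GraphPerm.McLModel
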