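import Cfsg.Agent.GraphPerm.McLData

/-!
# The kernel checks for the McL data: normalisation

The checks come in pieces which are elaborated one after the other, and the file has few imports:
this keeps the memory low.
-/

set_option autoImplicit false
set_option maxRecDepth 100000
set_option Elab.async false

namespace CfsgLib.GraphPerm.McLModel

theorem stepOne_0 : forRange 0 1 data.stepOneAt = true := by decide +kernel
theorem stepOne_1 : forRange 1 1 data.stepOneAt = true := by decide +kernel
theorem stepOne_2 : forRange 2 1 data.stepOneAt = true := by decide +kernel
theorem stepOne_3 : forRange 3 1 data.stepOneAt = true := by decide +kernel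
theorem stepOne_4 : forRange 4 1 data.stepOneAt = true := by decide +kernel
theorem stepOne_5 : forRange 5 1 data.stepOneAt = true := by decide +kernel
theorem stepOne_6 : forRange 6 1 data.stepOneAt = true := by decide +kernel
theorem stepOne_7 : forRange 7 1 data.stepOneAt = true := by decide +kernel
theorem stepOne_8 : forRange 8 1 data.stepOneAt = true := by decide +kernel
theorem stepOne_9 : forRange 9 1 data.stepOneAt = true := by decide +kernel
theorem stepOne_10 : forRange 10 1 data.stepOneAt = true := by decide +kernel
theorem stepTwo_1 : (data.LB.all fun z => data.stepTwo 1 z) = true := by decide +kernel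
theorem stepTwo_2 : (data.LB.all fun z => data.stepTwo 2 z) = true := by decide +kernel

theorem rigidOK : data.rigidOK = true := by
  refine RData.rigidOK_of (forRange_add (a := 10) (b := 1) (forRange_add (a := 9) (b := 1) (forRange_add (a := 8) (b := 1) (forRange_add (a := 7) (b := 1) (forRange_add (a := 6) (b := 1) (forRange_add (a := 5) (b := 1) (forRange_add (a := 4) (b := 1) (forRange_add (a := 3) (b := 1) (forRange_add (a := 2) (b := 1) (forRange_add (a := 1) (b := 1) stepOne_0 stepOne_1) stepOne_2) stepOne_3) stepOne_4) stepOne_5) stepOne_6) stepOne_7) stepOne_8) stepOne_9) stepOne_10) fun k hk => ?_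
  rw [show data.K0 = [1, 2] from rfl, List.mem_cons, List.mem_singleton] at hk
  rcases hk with rfl | rfl
  · exact stepTwo_1
  · exact stepTwo_2

end CfsgLib.GraphPerm.McLModel
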