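import Cfsg.Agent.GraphPerm.McLData

/-!
# The kernel checks for the McL data: searches

The checks come in pieces which are elaborated one after the other, and the file has few imports:
this keeps the memory low.
-/

set_option autoImplicit false
set_option maxRecDepth 100000
set_option Elab.async false

namespace CfsgLib.GraphPerm.McLModel

theorem searchSide_ok : data.searchSide = true := by decide +kernel
theorem searchA_0 : searchPart 275 data.R data.a data.r data.BA data.LA 0 92 data.levA = true := by decide +kernel
theorem searchA_1 : searchPart 275 data.R data.a data.r data.BA data.LA 92 91 data.levA = true := by decide +kernel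
theorem searchA_2 : searchPart 275 data.R data.a data.r data.BA data.LA 183 92 data.levA = true := by decide +kernel
theorem searchB_0 : searchPart 275 data.R data.b data.s data.BB data.LB 0 25 data.levB = true := by decide +kernel
theorem searchB_1 : searchPart 275 data.R data.b data.s data.BB data.LB 25 25 data.levB = true := by decide +kernel
theorem searchB_2 : searchPart 275 data.R data.b data.s data.BB data.LB 50 25 data.levB = true := by decide +kernel
theorem searchB_3 : searchPart 275 data.R data.b data.s data.BB data.LB 75 25 data.levB = true := by decide +kernel
theorem searchB_4 : searchPart 275 data.R data.b data.s data.BB data.LB 100 25 data.levB = true := by decide +kernel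
theorem searchB_5 : searchPart 275 data.R data.b data.s data.BB data.LB 125 25 data.levB = true := by decide +kernel
theorem searchB_6 : searchPart 275 data.R data.b data.s data.BB data.LB 150 25 data.levB = true := by decide +kernel
theorem searchB_7 : searchPart 275 data.R data.b data.s data.BB data.LB 175 25 data.levB = true := by decide +kernel
theorem searchB_8 : searchPart 275 data.R data.b data.s data.BB data.LB 200 25 data.levB = true := by decide +kernel
theorem searchB_9 : searchPart 275 data.R data.b data.s data.BB data.LB 225 25 data.levB = true := by decide +kernel
theorem searchB_10 : searchPart 275 data.R data.b data.s data.BB data.LB 250 25 data.levB = true := by decide +kernel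

theorem searchOK : data.searchOK = true :=
  RData.searchOK_of searchSide_ok (searchPart_add (c := 183) (d := 92) (searchPart_add (c := 92) (d := 91) searchA_0 searchA_1) searchA_2)
    (searchPart_add (c := 250) (d := 25) (searchPart_add (c := 225) (d := 25) (searchPart_add (c := 200) (d := 25) (searchPart_add (c := 175) (d := 25) (searchPart_add (c := 150) (d := 25) (searchPart_add (c := 125) (d := 25) (searchPart_add (c := 100) (d := 25) (searchPart_add (c := 75) (d := 25) (searchPart_add (c := 50) (d := 25) (searchPart_add (c := 25) (d := 25) searchB_0 searchB_1) searchB_2) searchB_3) searchB_4) searchB_5) searchB_6) searchB_7) searchB_8) searchB_9) searchB_10)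

end CfsgLib.GraphPerm.McLModel
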