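import Cfsg.Agent.GraphPerm.McLInvData
import Cfsg.Agent.GraphPerm.McLData
import Cfsg.Agent.GraphPerm.DoubleCoverTools

/-!
# The kernel checks for the involutions of the McL group
-/

set_option autoImplicit false
set_option maxRecDepth 100000

namespace CfsgLib.GraphPerm.McLInv

open McLModel (data)

/-- The tables shown to lie in the group. -/
def memTabs : List ℕ := slpTabs data.gens memSteps

theorem mem_ok : slpFlat 275 data.gens memSteps = true ∧
    ([uT, vT, tT, sT] ++ pGens ++ conjTabs).all memTabs.contains = true := by
  decide +kernel

theorem t_ok : wordEq 275 [tT, sT] [1, 1] [0] = true ∧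
    wordEq 275 [tT, uT, vT, data.sg] [1, 0] [0, 1] = true ∧
    wordEq 275 [tT, uT, vT, data.sg] [2, 0] [0, 2] = true ∧
    wordEq 275 [tT, uT, vT, data.sg] [3, 0] [0, 3] = true ∧
    wordEq 275 [tT] [0, 0] [] = true ∧ wordEq 275 [tT] [0] [] = false := by
  decide +kernel

theorem c_ok : slpOK 275 [uT, vT] cSteps = true ∧
    (cLevels.flatMap fun l => l.2.1).all (slpTabs [uT, vT] cSteps).contains = true ∧
    chainLower 275 (cLevels.flatMap fun l => l.2.1) [] cLevels = true ∧
    chainProd cLevels = 40320 ∧ (slpTabs [uT, vT] cSteps).contains sT = true := by
  decide +kernel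

theorem p_ok : slpOK 275 pGens pSteps = true ∧
    (pLevels.flatMap fun l => l.2.1).all (slpTabs pGens pSteps).contains = true ∧
    chainLower 275 (pLevels.flatMap fun l => l.2.1) [] pLevels = true ∧
    chainProd pLevels = 128 ∧ pTabs.length = 128 ∧
    (forBelow 275 fun x => tget (pTabs.getD 0 0) x == x) = true := by
  decide +kernel

/-- Left multiplication by a generator permutes the listed tables as the hints say. -/
def pClosed : Bool :=
  (pGens.zip pHints).all fun q => forBelow pTabs.length fun j =>
    decide (q.2.getD j 0 < pTabs.length) &&
      forBelow 275 fun x => tget (pTabs.getD (q.2.getD j 0) 0) x == tget q.1 (tget (pTabs.getD j 0) x)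

theorem p_closed : pClosed = true ∧ pGens.length = pHints.length := by decide +kernel

/-- Every involution listed is conjugate to the chosen one. -/
def invOK : Bool :=
  pTabs.all fun e => !(wordEq 275 [e] [0, 0] []) || wordEq 275 [e] [0] [] ||
    conjTabs.any fun g => wordConj 275 [e, tT] g [0] [1]

theorem inv_ok : invOK = true := by decide +kernel

/-- The fixed points of the involution. -/
def fixPts : List ℕ := (List.range 275).filter fun x => tget tT x == x

/-- The fixed points related to the first as the second is. -/
def fixNext : List ℕ :=
  fixPts.filter fun y => f1 != y && adjT 275 data.R f1 y == adjT 275 data.R f1 f2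

/-- The moved points related to the first two as the third is. -/
def thirdPts : List ℕ :=
  (List.range 275).filter fun v => adjT 275 data.R f1 v == adjT 275 data.R f1 f3 &&
    adjT 275 data.R f2 v == adjT 275 data.R f2 f3 && tget tT v != v &&
    adjT 275 data.R v (tget tT v) == adjT 275 data.R f3 (tget tT f3)

theorem pairs_ok : fixPts.length = 35 ∧ fixNext.length = 16 ∧ thirdPts.length = 72 ∧
    fixPts.contains f1 = true ∧ fixPts.contains f2 = true ∧ (f1 != f2) = true ∧
    (tget tT f3 != f3) = true := by
  decide +kernel

/-- The search starts with the three points and the partner of the third. -/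
def searchStart : List (ℕ × ℕ) :=
  [(f1, f1), (f2, f2), (f3, f3), (tget tT f3, tget tT f3)]

theorem stab_ok : slpOK 275 [uT, vT, data.sg] stabSteps = true ∧
    stabTabs.all (slpTabs [uT, vT, data.sg] stabSteps).contains = true ∧
    stabTabs.length = 2 ∧ distinguishing 275 data.R searchB = true ∧
    repsNew 275 tT 1 searchLevels searchStart = true := by
  decide +kernel

theorem search_ok :
    searchT 275 data.R tT 1 searchB stabTabs searchLevels searchStart = true := by
  decide +kernel

/-- A permutation carries the eight sets as prescribed. -/
def objCarry (g p : ℕ) : Bool :=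
  forBelow 8 fun i => fixPts.all fun a => fixPts.all fun b =>
    adjT 275 (objBits.getD (tget p i) 0) (tget g a) (tget g b) == adjT 275 (objBits.getD i 0) a b

/-- The eight sets differ on fixed points. -/
def objApart : Bool :=
  forBelow 8 fun i => forBelow 8 fun j => i == j || fixPts.any fun a => fixPts.any fun b =>
    adjT 275 (objBits.getD i 0) a b != adjT 275 (objBits.getD j 0) a b

theorem obj_ok : objCarry uT puT = true ∧ objCarry vT pvT = true ∧ objApart = true := by
  decide +kernel

theorem a_ok : slpOK 8 [puT, pvT] aSteps = true ∧
    (aLevels.flatMap fun l => l.2.1).all (slpTabs [puT, pvT] aSteps).contains = true ∧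
    chainLower 8 (aLevels.flatMap fun l => l.2.1) [] aLevels = true ∧
    chainProd aLevels = 20160 := by
  decide +kernel

end CfsgLib.GraphPerm.McLInv
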