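import Cfsg.Agent.GraphPerm.McLInvChecks
import Cfsg.Agent.GraphPerm.DoubleCoverTools
import Cfsg.Agent.GraphPerm.McLOut

/-!
# The involutions of the McL group and their centraliser

In the model on 275 points a Sylow 2-subgroup is listed and each of its involutions is conjugated
to one of them; the centraliser is bounded by a search and mapped onto the alternating group of
degree 8 by its action on eight sets of pairs of fixed points.
-/

set_option autoImplicit false
set_option maxRecDepth 100000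

namespace CfsgLib.GraphPerm.McLInv

open Cfsg
open Equiv (Perm)
open McLModel (data)
open scoped Pointwise

/-- A lookup has the tables, entry by entry. -/
theorem hasTabs_list {n : ℕ} {xs : List ℕ} {l : List (Perm (Fin n))}
    (h : List.Forall₂ (fun t σ => IsTab σ t) xs l) : HasTabs xs (fun i => l.getD i 1) := by
  intro a ha
  show IsTab (l.getD a 1) (xs.getD a 0)
  rw [List.getD_eq_getElem _ _ ha, List.getD_eq_getElem _ _ (h.length_eq ▸ ha)]
  exact (List.forall₂_iff_get.1 h).2 a ha (h.length_eq ▸ ha)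

theorem rdata_aut {D : RData} (h : D.baseOK = true) :
    (∀ t ∈ D.gens, isAut D.n D.R t = true) ∧ isAut D.n D.R D.sg = true := by
  simp only [RData.baseOK, Bool.and_eq_true] at h
  have h' := List.all_eq_true.1 h.1.1.1.1.1
  refine ⟨fun t ht => h' t ?_, h' _ (by simp)⟩
  simp only [RData.gens, List.mem_cons, List.not_mem_nil, or_false] at ht ⊢
  tauto

theorem rdata_le_autR {D : RData} (hb : D.baseOK = true) (hn : D.normOK = true)
    (ho : D.orderOK = true) {K : Subgroup (Perm (Fin D.n))} (hgens : ∀ t ∈ D.gens, InTab K t)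
    (hK : Nat.card K ≤ D.p * D.N) : K ≤ autR D.n D.R := by
  simp only [RData.normOK, Bool.and_eq_true] at hn
  simp only [RData.orderOK, Bool.and_eq_true, beq_iff_eq] at ho
  have hM : ∀ t ∈ D.gens, InTab (K ⊓ autR D.n D.R) t := fun t ht => by
    obtain ⟨σ, hσ, r⟩ := hgens t ht
    exact ⟨σ, ⟨hσ, mem_autR_of_isAut r ((rdata_aut hb).1 t ht)⟩, r⟩
  have hs : slpOK D.n D.gens D.steps = true := hn.1.1.1.1.1.1
  have hcard : D.p * D.N ≤ Nat.card ↥(K ⊓ autR D.n D.R) := by
    rw [← ho.1.1.2]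
    exact chainProd_le_card (fun t ht => inTab_slp D.steps D.gens hM hs t
      (List.contains_iff_mem.1 (List.all_eq_true.1 ho.1.1.1.1 t ht))) D.levels ho.1.1.1.2
  exact inf_eq_left.1 (Subgroup.eq_of_le_of_card_ge inf_le_left (hK.trans hcard))

theorem aut_sg : isAut 275 data.R data.sg = true := (rdata_aut McLModel.baseOK).2

theorem le_autR {K : Subgroup (Perm (Fin 275))} (hgens : ∀ t ∈ data.gens, InTab K t)
    (hK : Nat.card K ≤ data.p * data.N) : K ≤ autR 275 data.R :=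
  rdata_le_autR (D := data) McLModel.baseOK McLModel.normOK McLModel.orderOK hgens hK

theorem fixPts_mem {σt : Perm (Fin 275)} (rt : IsTab σt tT) (a : Fin 275) :
    a.val ∈ fixPts ↔ σt a = a := by
  rw [fixPts, List.mem_filter, beq_iff_eq, ← rt, Fin.val_inj]
  exact and_iff_right (List.mem_range.2 a.isLt)

section Model

variable {K : Subgroup (Perm (Fin 275))} {σt : Perm (Fin 275)}

/-- The pairs of a centralising permutation and its action on the eight sets. -/
def pairGrp (C : Subgroup (Perm (Fin 275))) (σt : Perm (Fin 275))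
    (hC : ∀ g ∈ C, g * σt = σt * g) : Subgroup (Perm (Fin 275) × Perm (Fin 8)) where
  carrier := {q | q.1 ∈ C ∧ q.2 ∈ alternatingGroup (Fin 8) ∧ ∀ (i : Fin 8) (a b : Fin 275),
    σt a = a → σt b = b → adjT 275 (objBits.getD (q.2 i).val 0) (q.1 a).val (q.1 b).val =
      adjT 275 (objBits.getD i.val 0) a.val b.val}
  one_mem' := ⟨one_mem C, one_mem _, fun _ _ _ _ _ => rfl⟩
  mul_mem' {x y} hx hy := ⟨mul_mem hx.1 hy.1, mul_mem hx.2.1 hy.2.1, fun i a b ha hb => by
    have hfix : ∀ c : Fin 275, σt c = c → σt (y.1 c) = y.1 c := fun c hc => by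
      have := DFunLike.congr_fun (hC y.1 hy.1) c
      simp only [Equiv.Perm.mul_apply, hc] at this
      exact this.symm
    rw [← hy.2.2 i a b ha hb]
    exact hx.2.2 (y.2 i) (y.1 a) (y.1 b) (hfix a ha) (hfix b hb)⟩
  inv_mem' {x} hx := ⟨inv_mem hx.1, inv_mem hx.2.1, fun i a b ha hb => by
    have hfix : ∀ c : Fin 275, σt c = c → σt (x.1⁻¹ c) = x.1⁻¹ c := fun c hc => by
      have := DFunLike.congr_fun (hC x.1⁻¹ (inv_mem hx.1)) c
      simp only [Equiv.Perm.mul_apply, hc] at this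
      exact this.symm
    have := hx.2.2 (x.2⁻¹ i) (x.1⁻¹ a) (x.1⁻¹ b) (hfix a ha) (hfix b hb)
    simpa using this.symm⟩

/-- The action is determined by the permutation of the points. -/
theorem pair_unique (rt : IsTab σt tT) {C : Subgroup (Perm (Fin 275))}
    {hC : ∀ g ∈ C, g * σt = σt * g} {g : Perm (Fin 275)} {π π' : Perm (Fin 8)}
    (h : (g, π) ∈ pairGrp C σt hC) (h' : (g, π') ∈ pairGrp C σt hC) : π = π' := by
  refine Equiv.ext fun i => ?_
  by_contra hne
  have hob := obj_ok.2.2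
  simp only [objApart, forBelow_iff, Bool.or_eq_true, beq_iff_eq, List.any_eq_true,
    bne_iff_ne] at hob
  rcases hob _ (π i).isLt _ (π' i).isLt with he | ⟨c, hc, d, hd, hcd⟩
  · exact hne (Fin.ext he)
  · have hlt : ∀ x ∈ fixPts, x < 275 := fun x hx => List.mem_range.1 (List.mem_filter.1 hx).1
    have hfix : ∀ z : Fin 275, z.val ∈ fixPts → σt (g⁻¹ z) = g⁻¹ z := fun z hz => by
      have := DFunLike.congr_fun (hC g⁻¹ (inv_mem h.1)) z
      simp only [Equiv.Perm.mul_apply, (fixPts_mem rt z).1 hz] at this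
      exact this.symm
    refine hcd ?_
    have e := h.2.2 i (g⁻¹ ⟨c, hlt c hc⟩) (g⁻¹ ⟨d, hlt d hd⟩) (hfix _ hc) (hfix _ hd)
    have e' := h'.2.2 i (g⁻¹ ⟨c, hlt c hc⟩) (g⁻¹ ⟨d, hlt d hd⟩) (hfix _ hc) (hfix _ hd)
    have := e.trans e'.symm
    simpa using this

theorem objCarry_sound (rt : IsTab σt tT) {g : Perm (Fin 275)} {π : Perm (Fin 8)} {tg tp : ℕ}
    (rg : IsTab g tg) (rp : IsTab π tp) (h : objCarry tg tp = true) (i : Fin 8) (a b : Fin 275)
    (ha : σt a = a) (hb : σt b = b) :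
    adjT 275 (objBits.getD (π i).val 0) (g a).val (g b).val =
      adjT 275 (objBits.getD i.val 0) a.val b.val := by
  simp only [objCarry, forBelow_iff, List.all_eq_true, beq_iff_eq] at h
  rw [rg, rg, rp]
  exact h _ i.isLt _ ((fixPts_mem rt a).2 ha) _ ((fixPts_mem rt b).2 hb)

theorem perm8 : IsTab puPerm puT ∧ IsTab pvPerm pvT ∧ Equiv.Perm.sign puPerm = 1 ∧
    Equiv.Perm.sign pvPerm = 1 := by
  refine ⟨?_, ?_, ?_, ?_⟩
  · intro i; revert i; decide +kernel
  · intro i; revert i; decide +kernel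
  · decide +kernel
  · decide +kernel

theorem mem_tabs (hgens : ∀ t ∈ data.gens, InTab K t) :
    ∀ x ∈ [uT, vT, tT, sT] ++ pGens ++ conjTabs, InTab K x :=
  fun x hx => inTab_flat hgens mem_ok.1 x
    (List.contains_iff_mem.1 (List.all_eq_true.1 mem_ok.2 x hx))

theorem orderOf_invol (rt : IsTab σt tT) : orderOf σt = 2 := by
  have hx : HasTabs [tT] (fun i => [σt].getD i 1) := hasTabs_list (by simp [rt])
  refine orderOf_eq_prime ?_ fun h => ?_
  · have := (wordEq_iff hx (by simp) (by simp)).1 t_ok.2.2.2.2.1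
    simpa [wval, pow_two] using this
  · have : wordEq 275 [tT] [0] [] = true :=
      (wordEq_iff hx (by simp) (by simp)).2 (by simpa [wval] using h)
    exact absurd this (by rw [t_ok.2.2.2.2.2]; decide)

/-- All involutions of `K` are conjugate to `t`. -/
theorem conj_invol (hgens : ∀ t ∈ data.gens, InTab K t) (hK : Nat.card K = 898128000)
    (rt : IsTab σt tT) (ht : σt ∈ K) (x : K) (hx : orderOf x = 2) : IsConj x ⟨σt, ht⟩ := by
  have : Fact (Nat.Prime 2) := ⟨Nat.prime_two⟩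
  let Ps : Set (Perm (Fin 275)) := {σ | ∃ t ∈ pTabs, IsTab σ t}
  let S₀ : Subgroup (Perm (Fin 275)) := K ⊓ MulAction.stabilizer (Perm (Fin 275)) Ps
  have hlen : pTabs.length = 128 := p_ok.2.2.2.2.1
  have hone : (1 : Perm (Fin 275)) ∈ Ps := by
    refine ⟨pTabs.getD 0 0, ?_, fun i => ?_⟩
    · rw [List.getD_eq_getElem _ _ (by omega)]
      exact List.getElem_mem _
    · have h := p_ok.2.2.2.2.2
      simp only [forBelow_iff, beq_iff_eq] at h
      rw [h _ i.isLt]; rfl
  have hsub : ∀ σ ∈ S₀, σ ∈ Ps := by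
    intro σ hσ
    have : σ • (1 : Perm (Fin 275)) ∈ σ • Ps := Set.smul_mem_smul_set hone
    rwa [MulAction.mem_stabilizer_iff.1 hσ.2, smul_eq_mul, mul_one] at this
  have hg : ∀ g ∈ pGens, InTab S₀ g := by
    intro g hgm
    obtain ⟨γ, hγ, rγ⟩ := mem_tabs hgens g (by simp [hgm])
    refine ⟨γ, ⟨hγ, ?_⟩, rγ⟩
    show γ ∈ MulAction.stabilizer (Perm (Fin 275)) Ps
    rw [MulAction.mem_stabilizer_set_iff_smul_set_subset (Set.toFinite Ps)]
    rintro _ ⟨σ, ⟨t, htm, rσ⟩, rfl⟩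
    obtain ⟨k, hk, rfl⟩ := List.getElem_of_mem hgm
    obtain ⟨j, hj, rfl⟩ := List.getElem_of_mem htm
    have hc := p_closed.1
    simp only [pClosed, List.all_eq_true, forBelow_iff, Bool.and_eq_true, decide_eq_true_eq,
      beq_iff_eq] at hc
    have hk' : k < pHints.length := p_closed.2 ▸ hk
    obtain ⟨h1, h2⟩ := hc (pGens[k], pHints[k])
      (List.mem_iff_getElem.mpr ⟨k, by rw [List.length_zip]; omega, List.getElem_zip⟩) j hj
    refine ⟨pTabs.getD (pHints[k].getD j 0) 0, ?_, fun i => ?_⟩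
    · rw [List.getD_eq_getElem _ _ h1]
      exact List.getElem_mem _
    · show ((γ * σ) i).val = _
      rw [h2 _ i.isLt, List.getD_eq_getElem _ _ hj, Equiv.Perm.mul_apply, rγ, rσ]
      rfl
  have hge : 128 ≤ Nat.card S₀ :=
    p_ok.2.2.2.1 ▸ le_card_of_chain hg p_ok.1 p_ok.2.1 p_ok.2.2.1
  have hS : Nat.card S₀ = 128 :=
    le_antisymm ((card_le_length hsub).trans hlen.le) hge
  have hcard : Nat.card ↥(S₀.subgroupOf K) = 2 ^ (Nat.card K).factorization 2 := by
    rw [Nat.card_congr (Subgroup.subgroupOfEquivOfLe (inf_le_left : S₀ ≤ K)).toEquiv, hS, hK,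
      show (898128000 : ℕ) = 2 ^ 7 * 7016625 by norm_num,
      Nat.factorization_mul (by norm_num) (by norm_num), Finsupp.add_apply,
      Nat.prime_two.factorization_pow, Finsupp.single_eq_same,
      Nat.factorization_eq_zero_of_not_dvd (show ¬ 2 ∣ 7016625 by omega), add_zero]
    norm_num
  refine isConj_of_sylow (Sylow.ofCard (S₀.subgroupOf K) hcard) _ (fun y hy hy2 => ?_) hx
  obtain ⟨e, hem, re⟩ := hsub _ (Subgroup.mem_subgroupOf.1 (show y ∈ S₀.subgroupOf K from hy))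
  have h := List.all_eq_true.1 inv_ok e hem
  have hy1 : y.1 * y.1 = 1 := by
    rw [← Subgroup.coe_mul, ← pow_two, ← hy2, pow_orderOf_eq_one]; rfl
  have hx1 : HasTabs [e] (fun i => [y.1].getD i 1) := hasTabs_list (by simp [re])
  rw [Bool.or_eq_true, Bool.or_eq_true] at h
  rcases h with (h | h) | h
  · have : wordEq 275 [e] [0, 0] [] = true :=
      (wordEq_iff hx1 (by simp) (by simp)).2 (by simpa [wval] using hy1)
    simp [this] at h
  · have e1 := (wordEq_iff hx1 (by simp) (by simp)).1 h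
    have e2 : y = 1 := Subtype.ext (by simpa [wval] using e1)
    simp [e2] at hy2
  · obtain ⟨g, hgm, hgc⟩ := List.any_eq_true.1 h
    obtain ⟨γ, hγ, rγ⟩ := mem_tabs hgens g (by simp [hgm])
    have hx2 : HasTabs [e, tT] (fun i => [y.1, σt].getD i 1) := hasTabs_list (by simp [re, rt])
    have := wordConj_sound hx2 rγ (by simp) (by simp) hgc
    exact isConj_iff.2 ⟨⟨γ, hγ⟩, Subtype.ext (by simpa [wval] using this)⟩

/-- The words used in `t_ok`. -/
theorem comm_facts {σu σv σg σs : Perm (Fin 275)} (rt : IsTab σt tT) (ru : IsTab σu uT)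
    (rv : IsTab σv vT) (rg : IsTab σg data.sg) (rs : IsTab σs sT) :
    σs * σs = σt ∧ σu * σt = σt * σu ∧ σv * σt = σt * σv ∧ σg * σt = σt * σg := by
  have hx : HasTabs [tT, sT] (fun i => [σt, σs].getD i 1) := hasTabs_list (by simp [rt, rs])
  have hy : HasTabs [tT, uT, vT, data.sg] (fun i => [σt, σu, σv, σg].getD i 1) :=
    hasTabs_list (by simp [rt, ru, rv, rg])
  refine ⟨?_, ?_, ?_, ?_⟩
  · simpa [wval] using (wordEq_iff hx (by simp) (by simp)).1 t_ok.1
  · simpa [wval] using (wordEq_iff hy (by simp) (by simp)).1 t_ok.2.1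
  · simpa [wval] using (wordEq_iff hy (by simp) (by simp)).1 t_ok.2.2.1
  · simpa [wval] using (wordEq_iff hy (by simp) (by simp)).1 t_ok.2.2.2.1

theorem mem_cent {g : Perm (Fin 275)} :
    g ∈ Subgroup.centralizer ({σt} : Set (Perm (Fin 275))) ↔ g * σt = σt * g :=
  Subgroup.mem_centralizer_singleton_iff

/-- The centraliser is no larger than the double cover. -/
theorem card_cent_le (hA : K ≤ autR 275 data.R) {σu σv σg : Perm (Fin 275)} (rt : IsTab σt tT)
    (ru : IsTab σu uT) (rv : IsTab σv vT) (rg : IsTab σg data.sg) (hu : σu ∈ K) (hv : σv ∈ K)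
    (hcg : σg * σt = σt * σg) (hg : σg ∉ K) :
    Nat.card ↥(K ⊓ Subgroup.centralizer ({σt} : Set (Perm (Fin 275)))) ≤ 40320 := by
  set C := K ⊓ Subgroup.centralizer ({σt} : Set (Perm (Fin 275)))
  set T := autR 275 data.R ⊓ Subgroup.centralizer ({σt} : Set (Perm (Fin 275)))
  have hgT : σg ∈ T := ⟨mem_autR_of_isAut rg aut_sg, mem_cent.2 hcg⟩
  have hL : ∀ t ∈ stabTabs, InTab (autR 275 data.R) t := by
    intro t ht
    refine inTab_slp stabSteps [uT, vT, data.sg] ?_ stab_ok.1 t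
      (List.contains_iff_mem.1 (List.all_eq_true.1 stab_ok.2.1 t ht))
    intro x hx
    simp only [List.mem_cons, List.not_mem_nil, or_false] at hx
    rcases hx with rfl | rfl | rfl
    exacts [⟨σu, hA hu, ru⟩, ⟨σv, hA hv, rv⟩, ⟨σg, hgT.1, rg⟩]
  obtain ⟨hl1, hl2, hl3, hc1, hc2, hne, hm3⟩ := pairs_ok
  have hne : f1 ≠ f2 := by simpa [bne_iff_ne] using hne
  have h1 : f1 < 275 := by decide
  have h2 : f2 < 275 := by decide
  have h3 : f3 < 275 := by decide
  have hf1 : σt ⟨f1, h1⟩ = ⟨f1, h1⟩ := (fixPts_mem rt _).1 (List.contains_iff_mem.1 hc1)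
  have hf2 : σt ⟨f2, h2⟩ = ⟨f2, h2⟩ := (fixPts_mem rt _).1 (List.contains_iff_mem.1 hc2)
  have hfix : ∀ g ∈ T, ∀ z : Fin 275, g (σt z) = σt (g z) := fun g hgg z =>
    DFunLike.congr_fun (mem_cent.1 hgg.2) z
  set T1 := T ⊓ MulAction.stabilizer (Perm (Fin 275)) (⟨f1, h1⟩ : Fin 275)
  set T2 := T1 ⊓ MulAction.stabilizer (Perm (Fin 275)) (⟨f2, h2⟩ : Fin 275)
  set T3 := T2 ⊓ MulAction.stabilizer (Perm (Fin 275)) (⟨f3, h3⟩ : Fin 275)
  have b1 : Nat.card T ≤ 35 * Nat.card T1 := by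
    rw [← hl1]
    refine card_le_orbit _ fun g hgg => (fixPts_mem rt _).2 ?_
    rw [← hfix g hgg, hf1]
  have b2 : Nat.card T1 ≤ 16 * Nat.card T2 := by
    rw [← hl2]
    refine card_le_orbit _ fun g hgg => ?_
    have e1 : g ⟨f1, h1⟩ = ⟨f1, h1⟩ := hgg.2
    simp only [fixNext, List.mem_filter, Bool.and_eq_true, beq_iff_eq, bne_iff_ne]
    refine ⟨(fixPts_mem rt _).2 (by rw [← hfix g hgg.1, hf2]), ?_, ?_⟩
    · intro e
      exact hne (congrArg Fin.val (g.injective (e1.trans (Fin.ext e))))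
    · have := hgg.1.1 ⟨f1, h1⟩ ⟨f2, h2⟩
      rw [e1] at this
      exact this
  have b3 : Nat.card T2 ≤ 72 * Nat.card T3 := by
    rw [← hl3]
    refine card_le_orbit _ fun g hgg => ?_
    have e1 : g ⟨f1, h1⟩ = ⟨f1, h1⟩ := hgg.1.2
    have e2 : g ⟨f2, h2⟩ = ⟨f2, h2⟩ := hgg.2
    have hA1 := hgg.1.1.1
    simp only [thirdPts, List.mem_filter, List.mem_range, Bool.and_eq_true, beq_iff_eq, bne_iff_ne]
    refine ⟨Fin.isLt _, ⟨⟨⟨?_, ?_⟩, ?_⟩, ?_⟩⟩
    · have := hA1 ⟨f1, h1⟩ ⟨f3, h3⟩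
      rw [e1] at this
      exact this
    · have := hA1 ⟨f2, h2⟩ ⟨f3, h3⟩
      rw [e2] at this
      exact this
    · rw [← rt, ne_eq, Fin.val_inj, ← hfix g hgg.1.1, g.injective.eq_iff]
      intro e
      have e' := congrArg Fin.val e
      rw [rt] at e'
      exact bne_iff_ne.1 hm3 e'
    · have := hA1 ⟨f3, h3⟩ (σt ⟨f3, h3⟩)
      rw [hfix g hgg.1.1, rt, rt] at this
      exact this
  have b4 : Nat.card T3 ≤ 2 := by
    rw [← stab_ok.2.2.1]
    refine card_le_length fun g hgg => ?_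
    have e1 : g ⟨f1, h1⟩ = ⟨f1, h1⟩ := hgg.1.1.2
    have e2 : g ⟨f2, h2⟩ = ⟨f2, h2⟩ := hgg.1.2
    have e3 : g ⟨f3, h3⟩ = ⟨f3, h3⟩ := hgg.2
    have hgT' : g ∈ T := hgg.1.1.1
    have e4 : g (σt ⟨f3, h3⟩) = σt ⟨f3, h3⟩ := by rw [hfix g hgT', e3]
    have hag : Agrees g searchStart := by
      intro q hq
      simp only [searchStart, List.mem_cons, List.not_mem_nil, or_false] at hq
      rcases hq with rfl | rfl | rfl | rfl
      · exact ⟨h1, congrArg Fin.val e1⟩
      · exact ⟨h2, congrArg Fin.val e2⟩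
      · exact ⟨h3, congrArg Fin.val e3⟩
      · have ev : (σt ⟨f3, h3⟩).val = tget tT f3 := rt _
        have hlt : tget tT f3 < 275 := rt.tget_lt h3
        refine ⟨hlt, ?_⟩
        have e5 : (⟨tget tT f3, hlt⟩ : Fin 275) = σt ⟨f3, h3⟩ := Fin.ext ev.symm
        show (g (⟨tget tT f3, hlt⟩ : Fin 275)).val = tget tT f3
        rw [e5, e4, ev]
    have hcm : g * σt = σt ^ 1 * g := by rw [pow_one]; exact mem_cent.1 hgT'.2
    exact searchT_sound (n := 275) (R := data.R) (a := tT) (k := 1) (σ := σt) (g := g) rt hcm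
      hgT'.1 (B := searchB) (L := stabTabs) stab_ok.2.2.2.1 hL searchLevels searchStart searchStart
      hag rfl stab_ok.2.2.2.2 search_ok
  have hT : Nat.card T ≤ 80640 := by omega
  have hCT : C ≤ T := fun c hc => ⟨hA hc.1, hc.2⟩
  let φ : C ⊕ C → T := Sum.elim (fun c => ⟨c.1, hCT c.2⟩) (fun c => ⟨c.1 * σg, mul_mem (hCT c.2) hgT⟩)
  have hφ : Function.Injective φ := by
    rintro (c | c) (d | d) e <;> have e' := congrArg Subtype.val e <;> simp [φ] at e'
    · rw [e']
    · exact absurd (show σg ∈ K by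
        rw [show σg = d.1⁻¹ * c.1 by rw [e', inv_mul_cancel_left]]
        exact mul_mem (inv_mem d.2.1) c.2.1) hg
    · exact absurd (show σg ∈ K by
        rw [show σg = c.1⁻¹ * d.1 by rw [← e', inv_mul_cancel_left]]
        exact mul_mem (inv_mem c.2.1) d.2.1) hg
    · rw [e']
  have := Nat.card_le_card_of_injective φ hφ
  rw [Nat.card_sum] at this
  omega

/-- The centraliser is a double cover of the alternating group. -/
theorem cent_cover (hgens : ∀ t ∈ data.gens, InTab K t) (hA : K ≤ autR 275 data.R)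
    (hout : ∀ σ : Perm (Fin 275), IsTab σ data.sg → σ ∉ K) (rt : IsTab σt tT) :
    ∃ f : ↥(K ⊓ Subgroup.centralizer ({σt} : Set (Perm (Fin 275)))) →* alternatingGroup (Fin 8),
      Function.Surjective f ∧
      Nat.card ↥(K ⊓ Subgroup.centralizer ({σt} : Set (Perm (Fin 275)))) = 40320 ∧
      ∃ s ∈ K, s * s = σt := by
  obtain ⟨σu, hu, ru⟩ := mem_tabs hgens uT (by simp)
  obtain ⟨σv, hv, rv⟩ := mem_tabs hgens vT (by simp)
  obtain ⟨σs, hs, rs⟩ := mem_tabs hgens sT (by simp)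
  obtain ⟨σg, rg⟩ := exists_isTab (n := 275) McLModel.sg_ok
  obtain ⟨hss, hcu, hcv, hcg⟩ := comm_facts rt ru rv rg rs
  set C := K ⊓ Subgroup.centralizer ({σt} : Set (Perm (Fin 275))) with hCdef
  have hC : ∀ g ∈ C, g * σt = σt * g := fun g hg => mem_cent.1 hg.2
  have hle : Nat.card C ≤ 40320 :=
    card_cent_le hA rt ru rv rg hu hv hcg (hout σg rg)
  set Γ := pairGrp C σt hC
  have huΓ : (σu, puPerm) ∈ Γ := ⟨⟨hu, mem_cent.2 hcu⟩, Equiv.Perm.mem_alternatingGroup.2 perm8.2.2.1,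
    objCarry_sound rt ru perm8.1 obj_ok.1⟩
  have hvΓ : (σv, pvPerm) ∈ Γ := ⟨⟨hv, mem_cent.2 hcv⟩, Equiv.Perm.mem_alternatingGroup.2 perm8.2.2.2,
    objCarry_sound rt rv perm8.2.1 obj_ok.2.1⟩
  let p1 : Γ →* Perm (Fin 275) := (MonoidHom.fst _ _).comp Γ.subtype
  have h1le : p1.range ≤ C := by rintro _ ⟨q, rfl⟩; exact q.2.1
  have h1tab : ∀ t ∈ [uT, vT], InTab p1.range t := by
    intro t ht
    simp only [List.mem_cons, List.not_mem_nil, or_false] at ht
    rcases ht with rfl | rfl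
    exacts [⟨σu, ⟨⟨_, huΓ⟩, rfl⟩, ru⟩, ⟨σv, ⟨⟨_, hvΓ⟩, rfl⟩, rv⟩]
  have hge := le_card_of_chain h1tab c_ok.1 c_ok.2.1 c_ok.2.2.1
  rw [c_ok.2.2.2.1] at hge
  have hrange : p1.range = C := Subgroup.eq_of_le_of_card_ge h1le (hle.trans hge)
  have hcard : Nat.card C = 40320 := le_antisymm hle (hrange ▸ hge)
  have hinj : Function.Injective p1 := by
    rintro ⟨⟨g, π⟩, h⟩ ⟨⟨g', π'⟩, h'⟩ e
    obtain rfl : g = g' := e
    obtain rfl := pair_unique rt h h'
    rfl
  let e1 : C ≃* Γ := ((MulEquiv.subgroupCongr hrange).symm.trans (MonoidHom.ofInjective hinj).symm)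
  let p2 : Γ →* alternatingGroup (Fin 8) :=
    ((MonoidHom.snd _ _).comp Γ.subtype).codRestrict _ (fun q => q.2.2.1)
  have hp2 : Function.Surjective p2 := by
    let R := ((MonoidHom.snd _ _).comp Γ.subtype).range
    have hR : R ≤ alternatingGroup (Fin 8) := by rintro _ ⟨q, rfl⟩; exact q.2.2.1
    have hRtab : ∀ t ∈ [puT, pvT], InTab R t := by
      intro t ht
      simp only [List.mem_cons, List.not_mem_nil, or_false] at ht
      rcases ht with rfl | rfl
      exacts [⟨puPerm, ⟨⟨_, huΓ⟩, rfl⟩, perm8.1⟩, ⟨pvPerm, ⟨⟨_, hvΓ⟩, rfl⟩, perm8.2.1⟩]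
    have h20 := le_card_of_chain hRtab a_ok.1 a_ok.2.1 a_ok.2.2.1
    rw [a_ok.2.2.2] at h20
    have hA8 : Nat.card (alternatingGroup (Fin 8)) = 20160 := by
      rw [nat_card_alternatingGroup, Nat.card_fin]; rfl
    have hRe : R = alternatingGroup (Fin 8) :=
      Subgroup.eq_of_le_of_card_ge hR (hA8.le.trans h20)
    rintro ⟨π, hπ⟩
    obtain ⟨q, hq⟩ : π ∈ R := hRe ▸ hπ
    exact ⟨q, Subtype.ext hq⟩
  exact ⟨p2.comp e1.toMonoidHom, hp2.comp e1.surjective, hcard, σs, hs, hss⟩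

end Model

/-- The statement for any group with the model. -/
theorem main_of_model {H : Type*} [Group H] [Finite H] (ρ : H →* Perm (Fin 275))
    (hinj : Function.Injective ρ) (hcard : Nat.card ρ.range = 898128000)
    (hgens : ∀ t ∈ data.gens, InTab ρ.range t)
    (hout : ∀ σ : Perm (Fin 275), IsTab σ data.sg → σ ∉ ρ.range) :
    (∀ x y : H, orderOf x = 2 → orderOf y = 2 → IsConj x y) ∧
      ∃ t : H, orderOf t = 2 ∧
        IsNonsplitDoubleCover ↥(Subgroup.centralizer ({t} : Set H)) ↥(alternatingGroup (Fin 8)) := by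
  have hN : data.p * data.N = 898128000 := by decide +kernel
  have hA : ρ.range ≤ autR 275 data.R := le_autR hgens (hcard.trans hN.symm).le
  obtain ⟨σt, ⟨τ, rfl⟩, rt⟩ := mem_tabs hgens tT (by simp)
  have hτ : orderOf τ = 2 := by rw [← orderOf_injective ρ hinj, orderOf_invol rt]
  let E : H ≃* ρ.range := MonoidHom.ofInjective hinj
  have hall : ∀ x : H, orderOf x = 2 → IsConj x τ := by
    intro x hx
    have := conj_invol hgens hcard rt ⟨τ, rfl⟩ (E x) (by rw [MulEquiv.orderOf_eq, hx])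
    obtain ⟨c, hc⟩ := isConj_iff.1 this
    refine isConj_iff.2 ⟨E.symm c, E.injective ?_⟩
    rw [map_mul, map_mul, map_inv, E.apply_symm_apply, hc]
    rfl
  refine ⟨fun x y hx hy => (hall x hx).trans (hall y hy).symm, τ, hτ, ?_⟩
  obtain ⟨f, hf, hC, s, ⟨s₀, rfl⟩, hss⟩ := cent_cover hgens hA hout rt
  let Z := Subgroup.centralizer ({τ} : Set H)
  let C := ρ.range ⊓ Subgroup.centralizer ({ρ τ} : Set (Perm (Fin 275)))
  have hmem : ∀ x : H, x ∈ Z ↔ ρ x ∈ C := fun x => by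
    simp only [Z, C, Subgroup.mem_inf, Subgroup.mem_centralizer_singleton_iff, MonoidHom.mem_range]
    refine ⟨fun h => ⟨⟨x, rfl⟩, by rw [← map_mul, h, map_mul]⟩, fun h => hinj ?_⟩
    rw [map_mul, map_mul, h.2]
  let j : Z →* C := (ρ.comp Z.subtype).codRestrict C (fun x => (hmem x.1).1 x.2)
  have hj : Function.Bijective j := by
    refine ⟨fun x y e => Subtype.ext (hinj (congrArg Subtype.val e)), ?_⟩
    rintro ⟨_, ⟨x, rfl⟩, h⟩
    exact ⟨⟨x, (hmem x).2 ⟨⟨x, rfl⟩, h⟩⟩, rfl⟩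
  have hsτ : s₀ * s₀ = τ := hinj (by rw [map_mul, hss])
  have hA8 : Nat.card (alternatingGroup (Fin 8)) = 20160 := by
    rw [nat_card_alternatingGroup, Nat.card_fin]; rfl
  refine isNonsplitDoubleCover_alt (by norm_num) (f.comp j) (hf.comp hj.2) ?_
    (t := ⟨τ, Subgroup.mem_centralizer_singleton_iff.2 rfl⟩)
    (s := ⟨s₀, Subgroup.mem_centralizer_singleton_iff.2 (by rw [← hsτ, mul_assoc])⟩) ?_ ?_
    (Subtype.ext hsτ)
  · rw [Nat.card_eq_of_bijective j hj, hC, hA8]
  · intro h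
    have : τ = 1 := congrArg Subtype.val h
    simp [this] at hτ
  · rintro ⟨x, hx⟩
    exact Subtype.ext (Subgroup.mem_centralizer_singleton_iff.1 hx)

theorem main :
    (∀ x y : ↥Spor.McL, orderOf x = 2 → orderOf y = 2 → IsConj x y) ∧
      ∃ t : ↥Spor.McL, orderOf t = 2 ∧ IsNonsplitDoubleCover
        ↥(Subgroup.centralizer ({t} : Set ↥Spor.McL)) ↥(alternatingGroup (Fin 8)) := by
  obtain ⟨hfin, hle⟩ := McLModel.natCard_le
  obtain ⟨ρ, hgens, hout⟩ := McLModel.exists_rho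
  obtain ⟨σ, rσ⟩ := exists_isTab (n := data.n) McLModel.sg_ok
  obtain ⟨hinj, hcard, -⟩ := card_out_range ρ (show Nat.Prime 11 by norm_num) McLModel.baseOK
    McLModel.normOK McLModel.orderOK McLModel.searchOK McLModel.rigidOK hle hgens rσ (hout σ rσ)
  exact main_of_model ρ hinj (hcard.trans (by decide +kernel)) hgens hout

end CfsgLib.GraphPerm.McLInv
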