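import Cfsg.Agent.GraphPerm.Search

/-!
# The data of a rigid generating triple of graph symmetries and its checks

The soundness proofs are in `Rigid.lean`; this file has few imports, so that the kernel checks of
the data run in little memory.
-/

set_option autoImplicit false

namespace CfsgLib.GraphPerm

open Equiv (Perm)

/-- Replace the letter `0` by its `k`-th power. -/
def powZero (k : ℕ) (w : List ℕ) : List ℕ :=
  w.flatMap fun i => if i = 0 then List.replicate k 0 else [i]

/-- The lookup of a three element family. -/
def three {M : Type*} (a b c : M) : ℕ → M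
  | 0 => a
  | 1 => b
  | _ => c

theorem wval_powZero {M : Type*} [Monoid M] (k : ℕ) (a y z : M) :
    ∀ w, wval (three a y z) (powZero k w) = wval (three (a ^ k) y z) w
  | [] => rfl
  | i :: w => by
    have ih := wval_powZero k a y z w
    simp only [powZero, List.flatMap_cons] at ih ⊢
    rw [wval_append, ih, wval_cons]
    congr 1
    split_ifs with h
    · subst h; rw [wval_replicate]; rfl
    · obtain ⟨j, rfl⟩ := Nat.exists_eq_succ_of_ne_zero h
      rw [wval_cons, wval_nil, mul_one]
      cases j <;> rfl

theorem mem_powZero {k m : ℕ} (hm : 0 < m) {w : List ℕ} (hw : ∀ i ∈ w, i < m) :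
    ∀ i ∈ powZero k w, i < m := by
  intro i hi
  simp only [powZero, List.mem_flatMap] at hi
  obtain ⟨j, hj, hij⟩ := hi
  split at hij
  · rw [List.eq_of_mem_replicate hij]; exact hm
  · rw [List.mem_singleton.1 hij]; exact hw j hj

/-- The data. -/
structure RData where
  n : ℕ
  R : ℕ
  p : ℕ
  N : ℕ
  r : ℕ
  s : ℕ
  a : ℕ
  b : ℕ
  c : ℕ
  sg : ℕ
  sa : ℕ
  sb : ℕ
  sc : ℕ
  s2 : ℕ
  steps : List SStep
  strong : List ℕ
  levels : List OLevel
  steps2 : List SStep
  BA : List ℕ
  BB : List ℕ
  levA : List SLevel
  LA : List ℕ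
  levB : List SLevel
  LB : List ℕ
  GS : List ℕ
  K0 : List ℕ
  rels : List (List ℕ × List ℕ)

namespace RData

variable (D : RData)

/-- The three generators. -/
def gens : List ℕ := [D.a, D.b, D.c]

/-- The tables in `K` used. -/
def inner : List ℕ := slpTabs D.gens D.steps

/-- The tables in `⟨K, sg⟩` used. -/
def all4 : List ℕ := slpTabs [D.a, D.b, D.c, D.sg] D.steps2

/-- The image `(a ^ k, y, z)` breaks a relation. -/
def breaks (k y z : ℕ) (ab : Bool) : Bool :=
  D.rels.any fun l => (!ab || (l.1 ++ l.2).all (fun i => decide (i < 2))) &&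
    !(wordEq D.n [D.a, y, z] (powZero k l.1) (powZero k l.2))

/-- `(a ^ k, y)` can be normalised. -/
def stepOne (k y : ℕ) : Bool :=
  D.breaks k y D.c true || D.GS.any fun g => D.K0.any fun k0 =>
    wordConj D.n [D.a, y, D.b] g (List.replicate k 0) (List.replicate k0 0) &&
      wordConj D.n [D.a, y, D.b] g [1] [2]

/-- `(a ^ k, b, z)` breaks or is conjugate to the triple. -/
def stepTwo (k z : ℕ) : Bool :=
  D.breaks k D.b z false || D.GS.any fun g =>
    wordConj D.n [D.a, D.b, z, D.c] g (List.replicate k 0) [0] &&
      wordConj D.n [D.a, D.b, z, D.c] g [1] [1] && wordConj D.n [D.a, D.b, z, D.c] g [2] [3]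

/-- Facts about the generators. -/
def baseOK : Bool :=
  [D.a, D.b, D.c, D.sg].all (isAut D.n D.R) &&
    wordEq D.n D.gens (List.replicate D.p 0) [] && !(wordEq D.n D.gens [0] []) &&
    wordEq D.n D.gens [1, 0] (List.replicate D.r 0 ++ [1]) &&
    wordEq D.n D.gens [2, 1] (List.replicate D.s 1 ++ [2]) &&
    D.rels.all fun l => (l.1 ++ l.2).all (fun i => decide (i < 3)) && wordEq D.n D.gens l.1 l.2

/-- Facts about `sg`. -/
def normOK : Bool :=
  slpOK D.n D.gens D.steps && slpOK D.n [D.a, D.b, D.c, D.sg] D.steps2 &&
    [D.sa, D.sb, D.sc, D.s2].all D.inner.contains &&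
    wordConj D.n [D.a, D.sa] D.sg [0] [1] && wordConj D.n [D.b, D.sb] D.sg [0] [1] &&
    wordConj D.n [D.c, D.sc] D.sg [0] [1] && wordEq D.n [D.sg, D.s2] [0, 0] [1]

/-- Order and fixed points. -/
def orderOK : Bool :=
  D.strong.all D.inner.contains && chainLower D.n D.strong [] D.levels &&
    chainProd D.levels == D.p * D.N && decide (D.N % D.p ≠ 0) &&
    match D.levels with
    | (b0, _, tree) :: (_, gens1, _) :: _ => tree.length + 1 == D.n &&
        forBelow D.n fun v => v == b0 || gens1.any fun g => tget g v != v
    | _ => false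

/-- The searches. -/
def searchOK : Bool :=
  (D.GS ++ D.LA ++ D.LB).all D.all4.contains && distinguishing D.n D.R D.BA &&
    distinguishing D.n D.R D.BB &&
    repsNew D.n D.a D.r D.levA [] && searchT D.n D.R D.a D.r D.BA D.LA D.levA [] &&
    repsNew D.n D.b D.s D.levB [] && searchT D.n D.R D.b D.s D.BB D.LB D.levB []

/-- The normalisation. -/
def rigidOK : Bool :=
  (forBelow D.p fun k => k == 0 || D.LA.all fun y => D.stepOne k y) &&
    D.K0.all fun k => D.LB.all fun z => D.stepTwo k z

end RData

/-! ### The checks in pieces, so that each piece runs in little memory -/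

/-- `p` holds from `lo` on at `m` numbers. -/
def forRange (lo m : ℕ) (p : ℕ → Bool) : Bool := (List.range' lo m).all p

theorem forRange_add {lo a b : ℕ} {p : ℕ → Bool} (h1 : forRange lo a p = true)
    (h2 : forRange (lo + a) b p = true) : forRange lo (a + b) p = true := by
  simp only [forRange] at *
  rw [← List.range'_append_1, List.all_append, h1, h2]
  rfl

theorem forBelow_of_forRange {n : ℕ} {p : ℕ → Bool} (h : forRange 0 n p = true) :
    forBelow n p = true := by
  rwa [forBelow, List.range_eq_range']

theorem slpOK_append {n : ℕ} : ∀ {s₁ s₂ : List SStep} {L : List ℕ},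
    slpOK n L s₁ = true → slpOK n (slpTabs L s₁) s₂ = true → slpOK n L (s₁ ++ s₂) = true
  | [], _, _, _, h => by simpa [slpTabs] using h
  | s :: rest, s₂, L, h, h' => by
    simp only [List.cons_append, slpOK, Bool.and_eq_true] at h ⊢
    exact ⟨h.1, slpOK_append h.2 (by simpa [slpTabs] using h')⟩

theorem slpOK_of_halves {n k : ℕ} {L : List ℕ} {s : List SStep}
    (h1 : slpOK n L (s.take k) = true) (h2 : slpOK n (slpTabs L (s.take k)) (s.drop k) = true) :
    slpOK n L s = true := by
  have := slpOK_append h1 h2
  rwa [List.take_append_drop] at this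

/-- `searchT` from the empty map, with the images of the first representative in a range. -/
def searchPart (n R a k : ℕ) (B L : List ℕ) (lo m : ℕ) : List SLevel → Bool
  | [] => searchT n R a k B L [] []
  | (r, len, tests) :: rest => forRange lo m fun v =>
      ([] : List (ℕ × ℕ)).any (fun q => q.2 == v) ||
        !(testsOK n R (cyclePairs a k r v len ++ []) tests) ||
        searchT n R a k B L rest (cyclePairs a k r v len ++ [])

theorem searchPart_add {n R a k : ℕ} {B L : List ℕ} {lo c d : ℕ} : ∀ {levels : List SLevel},
    searchPart n R a k B L lo c levels = true → searchPart n R a k B L (lo + c) d levels = true →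
      searchPart n R a k B L lo (c + d) levels = true
  | [], h, _ => h
  | _ :: _, h1, h2 => forRange_add h1 h2

theorem searchT_of_part {n R a k : ℕ} {B L : List ℕ} : ∀ {levels : List SLevel},
    searchPart n R a k B L 0 n levels = true → searchT n R a k B L levels [] = true
  | [], h => h
  | (_, _, _) :: _, h => forBelow_of_forRange h

/-- `isAut` for the rows in a range. -/
def isAutPart (n R t lo m : ℕ) : Bool :=
  forRange lo m fun u => forBelow n fun v => adjT n R (tget t u) (tget t v) == adjT n R u v

theorem isAut_of_part {n R t : ℕ} (h : isAutPart n R t 0 n = true) : isAut n R t = true :=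
  forBelow_of_forRange h

namespace RData

variable (D : RData)

/-- The part of `rigidOK` at the power `k`. -/
def stepOneAt (k : ℕ) : Bool := k == 0 || D.LA.all fun y => D.stepOne k y

/-- The part of `searchOK` besides the two searches. -/
def searchSide : Bool :=
  (D.GS ++ D.LA ++ D.LB).all D.all4.contains && distinguishing D.n D.R D.BA &&
    distinguishing D.n D.R D.BB && repsNew D.n D.a D.r D.levA [] && repsNew D.n D.b D.s D.levB []

/-- The part of `baseOK` besides the symmetries. -/
def baseSide : Bool :=
  wordEq D.n D.gens (List.replicate D.p 0) [] && !(wordEq D.n D.gens [0] []) &&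
    wordEq D.n D.gens [1, 0] (List.replicate D.r 0 ++ [1]) &&
    wordEq D.n D.gens [2, 1] (List.replicate D.s 1 ++ [2]) &&
    D.rels.all fun l => (l.1 ++ l.2).all (fun i => decide (i < 3)) && wordEq D.n D.gens l.1 l.2

/-- The part of `normOK` besides the programs. -/
def normSide : Bool :=
    [D.sa, D.sb, D.sc, D.s2].all D.inner.contains &&
    wordConj D.n [D.a, D.sa] D.sg [0] [1] && wordConj D.n [D.b, D.sb] D.sg [0] [1] &&
    wordConj D.n [D.c, D.sc] D.sg [0] [1] && wordEq D.n [D.sg, D.s2] [0, 0] [1]

variable {D}

theorem baseOK_of (ha : isAut D.n D.R D.a = true) (hb : isAut D.n D.R D.b = true)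
    (hc : isAut D.n D.R D.c = true) (hs : isAut D.n D.R D.sg = true) (h : D.baseSide = true) :
    D.baseOK = true := by
  simp only [baseSide, Bool.and_eq_true] at h
  simp only [baseOK, List.all_cons, List.all_nil, ha, hb, hc, hs, Bool.and_eq_true]
  simp only [h, and_self]

theorem normOK_of (hs : slpOK D.n D.gens D.steps = true)
    (hs2 : slpOK D.n [D.a, D.b, D.c, D.sg] D.steps2 = true) (h : D.normSide = true) :
    D.normOK = true := by
  simp only [normSide, Bool.and_eq_true] at h
  simp only [normOK, hs, hs2, h, Bool.and_eq_true, and_self]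

theorem searchOK_of (h : D.searchSide = true)
    (hA : searchPart D.n D.R D.a D.r D.BA D.LA 0 D.n D.levA = true)
    (hB : searchPart D.n D.R D.b D.s D.BB D.LB 0 D.n D.levB = true) : D.searchOK = true := by
  simp only [searchSide, Bool.and_eq_true] at h
  simp only [searchOK, h, searchT_of_part hA, searchT_of_part hB, Bool.and_eq_true, and_self]

theorem rigidOK_of (h1 : forRange 0 D.p D.stepOneAt = true)
    (h2 : ∀ k ∈ D.K0, (D.LB.all fun z => D.stepTwo k z) = true) : D.rigidOK = true := by
  simp only [rigidOK, Bool.and_eq_true]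
  exact ⟨forBelow_of_forRange h1, List.all_eq_true.2 h2⟩

end RData

end CfsgLib.GraphPerm
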